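import Mathlib
import Groth.Agent.H4.GaGm

/-!
# fpqc descent of functions (helper8)

For a flat, surjective, quasi-compact morphism `ψ : X ⟶ Y` the functions on (opens of) `Y` are the
functions on `X` which take the same value on any two points with the same image in `Y`.
-/

set_option autoImplicit false
universe u
open CategoryTheory CategoryTheory.Limits AlgebraicGeometry
open Groth.Agent.H4.GaGm

namespace Groth.Agent.H8.Tors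

section A1
variable {X Z : Scheme.{u}}

/-- a scheme as an object over `Spec ℤ` -/
noncomputable abbrev ovZ (X : Scheme.{u}) : Over (Spec (CommRingCat.of (ULift.{u} ℤ))) :=
  Over.mk (fZ X)

/-- a morphism to `𝔸¹_ℤ` as a morphism over `Spec ℤ` -/
noncomputable def toOvZ (m : X ⟶ (Red.GaZ.{u}).left) : ovZ X ⟶ Red.GaZ.{u} :=
  Over.homMk m (specULiftZIsTerminal.hom_ext _ _)

/-- the global function attached to a morphism to `𝔸¹_ℤ` -/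
noncomputable def homFn (m : X ⟶ (Red.GaZ.{u}).left) : Γ(X, ⊤) :=
  ev (toOvZ m) (SymmetricAlgebra.ι _ _ (ULift.up 1))

lemma homFn_comp (k : Z ⟶ X) (m : X ⟶ (Red.GaZ.{u}).left) :
    homFn (k ≫ m) = k.appTop.hom (homFn m) := by
  unfold homFn ev toOvZ
  simp only [Over.homMk_left]
  rw [Scheme.Hom.comp_appTop]
  rfl

lemma homFn_injective : Function.Injective (homFn (X := X)) := by
  intro m m' h
  have h1 : toOvZ m = toOvZ m' := by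
    apply ev_injective
    apply ringHom_ext_sym
    exact h
  exact congrArg (fun t => t.left) h1

lemma exists_homFn_eq (f : Γ(X, ⊤)) : ∃ m : X ⟶ (Red.GaZ.{u}).left, homFn m = f := by
  obtain ⟨φ, hφ⟩ := exists_ringHom_sym (B := Γ(X, ⊤)) f
  refine ⟨(pt (Y := ovZ X) φ).left, ?_⟩
  have : toOvZ (pt (Y := ovZ X) φ).left = pt φ := by
    apply Over.OverMorphism.ext; rfl
  unfold homFn
  rw [this, ev_pt, hφ]

end A1

variable {X Y : Scheme.{u}}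

theorem descFn_top (ψ : X ⟶ Y) [Flat ψ] [Surjective ψ] [QuasiCompact ψ] :
    Function.Injective ψ.appTop.hom ∧ ∀ f : Γ(X, ⊤),
      (∀ {Z : Scheme.{u}} (g₁ g₂ : Z ⟶ X), g₁ ≫ ψ = g₂ ≫ ψ →
        g₁.appTop.hom f = g₂.appTop.hom f) →
      ∃ s : Γ(Y, ⊤), ψ.appTop.hom s = f := by
  constructor
  · intro s₁ s₂ h
    obtain ⟨m₁, rfl⟩ := exists_homFn_eq s₁
    obtain ⟨m₂, rfl⟩ := exists_homFn_eq s₂
    rw [← homFn_comp, ← homFn_comp] at h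
    have h2 := homFn_injective h
    haveI : Epi ψ := Flat.epi_of_flat_of_surjective ψ
    rw [(cancel_epi ψ).mp h2]
  · intro f hf
    obtain ⟨m, rfl⟩ := exists_homFn_eq f
    have hdesc : ∀ {Z : Scheme.{u}} (g₁ g₂ : Z ⟶ X), g₁ ≫ ψ = g₂ ≫ ψ → g₁ ≫ m = g₂ ≫ m := by
      intro Z g₁ g₂ h
      apply homFn_injective
      rw [homFn_comp, homFn_comp]
      exact hf g₁ g₂ h
    refine ⟨homFn (EffectiveEpi.desc ψ m hdesc), ?_⟩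
    rw [← homFn_comp, EffectiveEpi.fac]

lemma appLE_of_eq {f g : X ⟶ Y} (h : f = g) (U : Y.Opens) (V : X.Opens) (e : V ≤ f ⁻¹ᵁ U) :
    f.appLE U V e = g.appLE U V (h ▸ e) := by
  subst h; rfl

lemma appTop_eq_appLE {Z W : Scheme.{u}} (g : Z ⟶ W) : g.appTop = g.appLE ⊤ ⊤ le_top := by
  rw [Scheme.Hom.appLE]
  exact (Category.comp_id _).symm.trans
    (congrArg (fun t => g.app ⊤ ≫ t) (Z.presheaf.map_id _).symm)

lemma bijective_ι_appLE (U : Y.Opens) (h : ⊤ ≤ U.ι ⁻¹ᵁ U) :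
    Function.Bijective (U.ι.appLE U ⊤ h).hom := by
  rw [Scheme.Opens.ι_appLE]
  have hle : U ≤ U.ι ''ᵁ ⊤ := by rw [Scheme.Opens.ι_image_top]
  have hle' : U.ι ''ᵁ ⊤ ≤ U := by rw [Scheme.Opens.ι_image_top]
  change Function.Bijective (Y.presheaf.map (homOfLE hle').op).hom
  have h1 : Y.presheaf.map (homOfLE hle').op ≫ Y.presheaf.map (homOfLE hle).op = 𝟙 _ := by
    rw [← Functor.map_comp, ← Y.presheaf.map_id]
    rfl
  have h2 : Y.presheaf.map (homOfLE hle).op ≫ Y.presheaf.map (homOfLE hle').op = 𝟙 _ := by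
    rw [← Functor.map_comp, ← Y.presheaf.map_id]
    rfl
  refine ⟨?_, ?_⟩
  · intro a b hab
    have := congrArg (Y.presheaf.map (homOfLE hle).op).hom hab
    have e1 : ∀ t, (Y.presheaf.map (homOfLE hle).op).hom
        ((Y.presheaf.map (homOfLE hle').op).hom t) = t := fun t => by
      rw [← CommRingCat.comp_apply, h1]; rfl
    exact (e1 a).symm.trans (this.trans (e1 b))
  · intro b
    refine ⟨(Y.presheaf.map (homOfLE hle).op).hom b, ?_⟩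
    rw [← CommRingCat.comp_apply, h2]; rfl

theorem descFn_open (ψ : X ⟶ Y) [Flat ψ] [Surjective ψ] [QuasiCompact ψ] (U : Y.Opens) :
    Function.Injective (ψ.app U).hom ∧ ∀ f : Γ(X, ψ ⁻¹ᵁ U),
      (∀ {Z : Scheme.{u}} (g₁ g₂ : Z ⟶ X) (h₁ : ⊤ ≤ g₁ ⁻¹ᵁ (ψ ⁻¹ᵁ U))
        (h₂ : ⊤ ≤ g₂ ⁻¹ᵁ (ψ ⁻¹ᵁ U)), g₁ ≫ ψ = g₂ ≫ ψ →
        (g₁.appLE (ψ ⁻¹ᵁ U) ⊤ h₁).hom f = (g₂.appLE (ψ ⁻¹ᵁ U) ⊤ h₂).hom f) →
      ∃ s : Γ(Y, U), (ψ.app U).hom s = f := by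
  haveI : Surjective (ψ ∣_ U) := IsZariskiLocalAtTarget.restrict ‹Surjective ψ› U
  obtain ⟨hinj, hdesc⟩ := descFn_top (ψ ∣_ U)
  have hU : ⊤ ≤ U.ι ⁻¹ᵁ U := by rw [Scheme.Opens.ι_preimage_self]
  have hV : ⊤ ≤ (ψ ⁻¹ᵁ U).ι ⁻¹ᵁ (ψ ⁻¹ᵁ U) := by rw [Scheme.Opens.ι_preimage_self]
  have hbU := bijective_ι_appLE U hU
  have hbV := bijective_ι_appLE (ψ ⁻¹ᵁ U) hV
  have hnat : U.ι.appLE U ⊤ hU ≫ (ψ ∣_ U).appTop =
      ψ.app U ≫ (ψ ⁻¹ᵁ U).ι.appLE (ψ ⁻¹ᵁ U) ⊤ hV := by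
    rw [Scheme.Hom.app_eq_appLE, Scheme.Hom.appLE_comp_appLE]
    rw [appTop_eq_appLE (ψ ∣_ U), Scheme.Hom.appLE_comp_appLE]
    exact appLE_of_eq (morphismRestrict_ι ψ U) _ _ _
  have hnat' : ∀ s, (ψ ∣_ U).appTop.hom ((U.ι.appLE U ⊤ hU).hom s) =
      ((ψ ⁻¹ᵁ U).ι.appLE (ψ ⁻¹ᵁ U) ⊤ hV).hom ((ψ.app U).hom s) := fun s =>
    congrArg (fun m => m.hom s) hnat
  constructor
  · intro s₁ s₂ h
    apply hbU.1
    apply hinj
    rw [hnat', hnat', h]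
  · intro f hf
    obtain ⟨s', hs'⟩ := hdesc (((ψ ⁻¹ᵁ U).ι.appLE (ψ ⁻¹ᵁ U) ⊤ hV).hom f) (by
      intro Z g₁ g₂ h
      have h' : (g₁ ≫ (ψ ⁻¹ᵁ U).ι) ≫ ψ = (g₂ ≫ (ψ ⁻¹ᵁ U).ι) ≫ ψ := by
        rw [Category.assoc, Category.assoc, ← morphismRestrict_ι, ← Category.assoc,
          ← Category.assoc, h]
      have e1 : ∀ g : Z ⟶ (ψ ⁻¹ᵁ U).toScheme, ∀ hg : ⊤ ≤ (g ≫ (ψ ⁻¹ᵁ U).ι) ⁻¹ᵁ (ψ ⁻¹ᵁ U),
          g.appTop.hom (((ψ ⁻¹ᵁ U).ι.appLE (ψ ⁻¹ᵁ U) ⊤ hV).hom f) =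
            ((g ≫ (ψ ⁻¹ᵁ U).ι).appLE (ψ ⁻¹ᵁ U) ⊤ hg).hom f := by
        intro g hg
        rw [appTop_eq_appLE g, ← CommRingCat.comp_apply, Scheme.Hom.appLE_comp_appLE]
      have hg : ∀ g : Z ⟶ (ψ ⁻¹ᵁ U).toScheme, ⊤ ≤ (g ≫ (ψ ⁻¹ᵁ U).ι) ⁻¹ᵁ (ψ ⁻¹ᵁ U) := by
        intro g x _
        show (g ≫ (ψ ⁻¹ᵁ U).ι) x ∈ ψ ⁻¹ᵁ U
        rw [Scheme.Hom.comp_apply]
        exact (g x).2
      rw [e1 g₁ (hg g₁), e1 g₂ (hg g₂)]
      exact hf _ _ _ _ h')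
    obtain ⟨s, rfl⟩ := hbU.2 s'
    refine ⟨s, ?_⟩
    apply hbV.1
    rw [← hnat', hs']

end Groth.Agent.H8.Tors
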