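import Mathlib
import Groth.Prelude.Def_NonAbH2
import Groth.Agent.Lib.Helper9.AlgGrpAct

/-!
# Point calculus for pseudo-torsors (helper8)
-/

set_option autoImplicit false
universe u
open CategoryTheory MonoidalCategory CartesianMonoidalCategory MonObj AlgebraicGeometry

namespace Groth.Agent.H8.Tors

variable {S : Scheme.{u}} {G X : Over S} [GrpObj G] (a : AlgGrp.Action G X)

/-- `g • x` on `T`-valued points. -/
noncomputable def sm {T : Over S} (g : T ⟶ G) (x : T ⟶ X) : T ⟶ X := lift g x ≫ a.act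

lemma sm_mul {T : Over S} (g h : T ⟶ G) (x : T ⟶ X) : sm a (g * h) x = sm a g (sm a h x) :=
  Groth.Agent.H9.AlgGrpAct.lift_mul_act a g h x

lemma sm_one {T : Over S} (x : T ⟶ X) : sm a 1 x = x :=
  Groth.Agent.H9.AlgGrpAct.lift_one_act a x

lemma comp_sm {T T' : Over S} (t : T' ⟶ T) (g : T ⟶ G) (x : T ⟶ X) :
    t ≫ sm a g x = sm a (t ≫ g) (t ≫ x) := by
  simp only [sm, comp_lift_assoc]

variable (hpt : NonAbH1.IsPseudoTorsorSch a)

/-- the unique `g` with `g • y = x` -/
noncomputable def diff {T : Over S} (x y : T ⟶ X) : T ⟶ G :=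
  haveI : IsIso (lift a.act (snd G X)) := hpt
  lift x y ≫ inv (lift a.act (snd G X)) ≫ fst G X

include hpt in
lemma lift_diff {T : Over S} (x y : T ⟶ X) :
    haveI : IsIso (lift a.act (snd G X)) := hpt
    lift (diff a hpt x y) y = lift x y ≫ inv (lift a.act (snd G X)) := by
  haveI : IsIso (lift a.act (snd G X)) := hpt
  have hΦ2 : inv (lift a.act (snd G X)) ≫ snd G X = snd X X := by
    rw [IsIso.inv_comp_eq, lift_snd]
  apply CartesianMonoidalCategory.hom_ext
  · rw [lift_fst, Category.assoc]; rfl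
  · rw [lift_snd, Category.assoc, hΦ2, lift_snd]

lemma sm_diff {T : Over S} (x y : T ⟶ X) : sm a (diff a hpt x y) y = x := by
  haveI : IsIso (lift a.act (snd G X)) := hpt
  have hΦ1 : inv (lift a.act (snd G X)) ≫ a.act = fst X X := by
    rw [IsIso.inv_comp_eq, lift_fst]
  rw [sm, lift_diff a hpt, Category.assoc, hΦ1, lift_fst]

lemma diff_unique {T : Over S} (x y : T ⟶ X) (g : T ⟶ G) (h : sm a g y = x) :
    g = diff a hpt x y := by
  haveI : IsIso (lift a.act (snd G X)) := hpt
  have h1 : lift g y ≫ lift a.act (snd G X) = lift x y := by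
    apply CartesianMonoidalCategory.hom_ext
    · rw [Category.assoc, lift_fst, lift_fst]; exact h
    · rw [Category.assoc, lift_snd, lift_snd, lift_snd]
  have h2 : lift g y = lift x y ≫ inv (lift a.act (snd G X)) := by
    rw [← h1, Category.assoc, IsIso.hom_inv_id, Category.comp_id]
  have h3 := congr($h2 ≫ fst G X)
  rw [lift_fst, Category.assoc] at h3
  exact h3

lemma comp_diff {T T' : Over S} (t : T' ⟶ T) (x y : T ⟶ X) :
    t ≫ diff a hpt x y = diff a hpt (t ≫ x) (t ≫ y) := by
  apply diff_unique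
  rw [← comp_sm, sm_diff]

lemma diff_mul {T : Over S} (x y z : T ⟶ X) :
    diff a hpt x y * diff a hpt y z = diff a hpt x z := by
  apply diff_unique
  rw [sm_mul, sm_diff, sm_diff]

end Groth.Agent.H8.Tors
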