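import Mathlib
import Groth.Agent.Lib.Helper8.Tors.Pts
import Groth.Agent.Lib.Helper3.TorsAff
import Groth.Agent.Lib.Helper3.TorsorProp

/-!
# Point calculus for torsors given by a cartesian square (helper8)

`G` acts on `X`, `φ : X ⟶ Y` is invariant and `G × X ⟶ X ×_Y X` is an isomorphism, expressed as
`IsPullback a.act (snd G X) φ φ`.
-/

set_option autoImplicit false
universe u
open CategoryTheory CategoryTheory.Limits MonoidalCategory CartesianMonoidalCategory MonObj
  AlgebraicGeometry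

namespace Groth.Agent.H8.Tors

variable {S : Scheme.{u}} {G X Y : Over S} [GrpObj G] (a : AlgGrp.Action G X) (φ : X ⟶ Y)
  (hc : IsPullback a.act (snd G X) φ φ)

open Classical in
/-- the unique `g` with `g • y = x`, for points with the same image in `Y` -/
noncomputable def diffC {T : Over S} (x y : T ⟶ X) : T ⟶ G :=
  if h : x ≫ φ = y ≫ φ then hc.lift x y h ≫ fst G X else 1

include hc in
lemma sm_comp_φ {T : Over S} (g : T ⟶ G) (x : T ⟶ X) : sm a g x ≫ φ = x ≫ φ := by
  rw [sm, Category.assoc, hc.w, ← Category.assoc, lift_snd]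

lemma sm_diffC {T : Over S} (x y : T ⟶ X) (h : x ≫ φ = y ≫ φ) :
    sm a (diffC a φ hc x y) y = x := by
  rw [diffC, dif_pos h, sm]
  have : lift (hc.lift x y h ≫ fst G X) y = hc.lift x y h := by
    apply CartesianMonoidalCategory.hom_ext
    · rw [lift_fst]
    · rw [lift_snd, hc.lift_snd]
  rw [this, hc.lift_fst]

lemma diffC_unique {T : Over S} (x y : T ⟶ X) (g : T ⟶ G) (h : sm a g y = x) :
    g = diffC a φ hc x y := by
  have hxy : x ≫ φ = y ≫ φ := by rw [← h, sm_comp_φ a φ hc]
  rw [diffC, dif_pos hxy]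
  have : lift g y = hc.lift x y hxy := by
    apply hc.hom_ext
    · rw [hc.lift_fst]; exact h
    · rw [hc.lift_snd, lift_snd]
  rw [← this, lift_fst]

lemma comp_diffC {T T' : Over S} (t : T' ⟶ T) (x y : T ⟶ X) (h : x ≫ φ = y ≫ φ) :
    t ≫ diffC a φ hc x y = diffC a φ hc (t ≫ x) (t ≫ y) := by
  apply diffC_unique
  rw [← comp_sm, sm_diffC a φ hc x y h]

lemma diffC_mul {T : Over S} (x y z : T ⟶ X) (h1 : x ≫ φ = y ≫ φ) (h2 : y ≫ φ = z ≫ φ) :
    diffC a φ hc x y * diffC a φ hc y z = diffC a φ hc x z := by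
  apply diffC_unique
  rw [sm_mul, sm_diffC a φ hc y z h2, sm_diffC a φ hc x y h1]

include a hc in
/-- a section of `φ` over `f : Y' ⟶ Y` trivialises the base change of `φ` along `f` -/
theorem exists_iso_pullback_of_sectionC {Y' : Scheme.{u}} (f : Y' ⟶ Y.left) (σ : Y' ⟶ X.left)
    (hσ : σ ≫ φ.left = f) :
    ∃ e : pullback G.hom (f ≫ Y.hom) ≅ pullback φ.left f,
      e.hom ≫ pullback.snd φ.left f = pullback.snd G.hom (f ≫ Y.hom) := by
  let T : Over S := Over.mk (f ≫ Y.hom)
  let s : T ⟶ X := Over.homMk σ (by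
    change σ ≫ X.hom = f ≫ Y.hom
    rw [← Over.w φ, ← Category.assoc, hσ])
  let PX : Over S := Over.mk (pullback.snd φ.left f ≫ f ≫ Y.hom)
  let px : PX ⟶ X := Over.homMk (pullback.fst φ.left f) (by
    change pullback.fst φ.left f ≫ X.hom = pullback.snd φ.left f ≫ f ≫ Y.hom
    rw [← Over.w φ, ← Category.assoc, pullback.condition, Category.assoc])
  let pt : PX ⟶ T := Over.homMk (pullback.snd φ.left f) rfl
  have hpx : px ≫ φ = (pt ≫ s) ≫ φ := by
    apply Over.OverMorphism.ext
    change pullback.fst φ.left f ≫ φ.left = (pullback.snd φ.left f ≫ σ) ≫ φ.left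
    rw [Category.assoc, hσ, pullback.condition]
  have hext : ∀ {Z : Over S} (m m' : Z ⟶ PX), m ≫ px = m' ≫ px → m ≫ pt = m' ≫ pt → m = m' := by
    intro Z m m' h1 h2
    apply Over.OverMorphism.ext
    apply pullback.hom_ext
    · exact congrArg (fun t => t.left) h1
    · exact congrArg (fun t => t.left) h2
  have hΦ1 : (sm a (fst G T) (snd G T ≫ s)).left ≫ φ.left = (snd G T).left ≫ f := by
    have h1 := congrArg (fun t => t.left) (sm_comp_φ a φ hc (fst G T) (snd G T ≫ s))
    change (sm a (fst G T) (snd G T ≫ s)).left ≫ φ.left = ((snd G T).left ≫ σ) ≫ φ.left at h1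
    rw [h1, Category.assoc, hσ]
  let Φ : G ⊗ T ⟶ PX := Over.homMk (pullback.lift (sm a (fst G T) (snd G T ≫ s)).left
      (snd G T).left hΦ1) (by
    change pullback.lift _ _ _ ≫ pullback.snd φ.left f ≫ f ≫ Y.hom = (G ⊗ T).hom
    rw [pullback.lift_snd_assoc]
    exact Over.w (snd G T))
  have hΦpx : Φ ≫ px = sm a (fst G T) (snd G T ≫ s) := by
    apply Over.OverMorphism.ext
    change pullback.lift _ _ _ ≫ pullback.fst φ.left f = _
    rw [pullback.lift_fst]
  have hΦpt : Φ ≫ pt = snd G T := by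
    apply Over.OverMorphism.ext
    change pullback.lift _ _ _ ≫ pullback.snd φ.left f = _
    rw [pullback.lift_snd]
  let Ψ : PX ⟶ G ⊗ T := lift (diffC a φ hc px (pt ≫ s)) pt
  have h1 : Φ ≫ Ψ = 𝟙 _ := by
    apply CartesianMonoidalCategory.hom_ext
    · rw [Category.assoc, lift_fst, Category.id_comp, comp_diffC a φ hc Φ _ _ hpx, hΦpx,
        ← Category.assoc, hΦpt]
      exact (diffC_unique a φ hc _ _ _ rfl).symm
    · rw [Category.assoc, lift_snd, Category.id_comp, hΦpt]
  have h2 : Ψ ≫ Φ = 𝟙 _ := by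
    apply hext
    · rw [Category.assoc, hΦpx, comp_sm, lift_fst, ← Category.assoc, lift_snd, Category.id_comp]
      exact sm_diffC a φ hc _ _ hpx
    · rw [Category.assoc, hΦpt, lift_snd, Category.id_comp]
  let e : G ⊗ T ≅ PX := ⟨Φ, Ψ, h1, h2⟩
  exact ⟨(Over.forget S).mapIso e, congrArg (fun m => m.left) hΦpt⟩

include a hc in
/-- A property which is fpqc local on the target and stable under base change passes from the
group to a torsor given by a cartesian square. -/
theorem prop_of_cart (P : MorphismProperty Scheme.{u}) [P.IsStableUnderBaseChange]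
    [P.IsLocalAtTarget Scheme.fpqcPrecoverage]
    (hloc : NonAbH1.IsLocallyTrivialFor Scheme.fpqcPrecoverage (Over.mk φ.left : Over Y.left))
    (hG : P G.hom) : P φ.left := by
  obtain ⟨R, hR, hsec⟩ := hloc
  refine MorphismProperty.IsLocalAtTarget.of_forall_pullbackSnd (P := P) hR ?_
  intro S' f _ hf
  obtain ⟨σ, hσ⟩ := hsec f hf
  obtain ⟨e, he⟩ := exists_iso_pullback_of_sectionC a φ hc f σ hσ
  rw [← P.cancel_left_of_respectsIso e.hom, he]
  exact P.pullback_snd _ _ hG

end Groth.Agent.H8.Tors
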