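import Mathlib
import Groth.Prelude.Def_W4bk4git07Quot
import Groth.Agent.Lib.Helper8.Tors.PtsC
import Groth.Agent.Lib.Helper8.Tors.DescFn

/-!
# A torsor (cartesian square form) is an affine geometric quotient (helper8)
-/

set_option autoImplicit false
universe u
open CategoryTheory CategoryTheory.Limits MonoidalCategory CartesianMonoidalCategory MonObj
  AlgebraicGeometry

namespace Groth.Agent.H8.Tors

variable {S : Scheme.{u}} {G X Y : Over S} [GrpObj G] (a : AlgGrp.Action G X) (φ : X ⟶ Y)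
  (hc : IsPullback a.act (snd G X) φ φ)

include hc in
lemma exists_point_of_eq {Z : Scheme.{u}} (g₁ g₂ : Z ⟶ X.left) (h : g₁ ≫ φ.left = g₂ ≫ φ.left) :
    ∃ w : Z ⟶ (G ⊗ X).left, w ≫ a.act.left = g₁ ∧ w ≫ (snd G X).left = g₂ := by
  have hXY : X.hom = φ.left ≫ Y.hom := (Over.w φ).symm
  let T : Over S := Over.mk (g₁ ≫ X.hom)
  let x₁ : T ⟶ X := Over.homMk g₁ rfl
  let x₂ : T ⟶ X := Over.homMk g₂ (by
    change g₂ ≫ X.hom = g₁ ≫ X.hom
    rw [hXY, ← Category.assoc, ← Category.assoc, h])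
  have hx : x₁ ≫ φ = x₂ ≫ φ := by
    apply Over.OverMorphism.ext
    exact h
  have hsm := sm_diffC a φ hc x₁ x₂ hx
  refine ⟨(lift (diffC a φ hc x₁ x₂) x₂).left, congrArg (fun m => m.left) hsm, ?_⟩
  exact congrArg (fun m => m.left) (lift_snd (diffC a φ hc x₁ x₂) x₂)

include hc in
theorem isInvSection_iff [Flat φ.left] [Surjective φ.left] [QuasiCompact φ.left]
    (U : Y.left.Opens) :
    Function.Injective (φ.left.app U) ∧
      Set.range (φ.left.app U) = {f | GIT.IsInvSection a φ U f} := by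
  obtain ⟨hinj, hdesc⟩ := descFn_open φ.left U
  refine ⟨fun s t h => hinj h, ?_⟩
  have hact : a.act.left ≫ φ.left = (snd G X).left ≫ φ.left := by
    rw [← Over.comp_left, ← Over.comp_left, hc.w]
  ext f
  constructor
  · rintro ⟨s, rfl⟩
    show (a.act.left.appLE _ _ inf_le_left).hom ((φ.left.app U).hom s) =
      ((snd G X).left.appLE _ _ inf_le_right).hom ((φ.left.app U).hom s)
    rw [Scheme.Hom.app_eq_appLE, ← CommRingCat.comp_apply, ← CommRingCat.comp_apply,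
      Scheme.Hom.appLE_comp_appLE, Scheme.Hom.appLE_comp_appLE]
    exact congrArg (fun m : Γ(Y.left, U) ⟶ Γ((G ⊗ X).left,
      a.act.left ⁻¹ᵁ (φ.left ⁻¹ᵁ U) ⊓ (snd G X).left ⁻¹ᵁ (φ.left ⁻¹ᵁ U)) => m.hom s)
      (appLE_of_eq hact U _ _)
  · intro hf
    obtain ⟨s, hs⟩ := hdesc f (by
      intro Z g₁ g₂ h₁ h₂ h
      obtain ⟨w, hw1, hw2⟩ := exists_point_of_eq a φ hc g₁ g₂ h
      have hwW : ⊤ ≤ w ⁻¹ᵁ (a.act.left ⁻¹ᵁ (φ.left ⁻¹ᵁ U) ⊓ (snd G X).left ⁻¹ᵁ (φ.left ⁻¹ᵁ U)) := by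
        intro z _
        constructor
        · show a.act.left (w z) ∈ φ.left ⁻¹ᵁ U
          rw [← Scheme.Hom.comp_apply, hw1]
          exact h₁ (Set.mem_univ z)
        · show (snd G X).left (w z) ∈ φ.left ⁻¹ᵁ U
          rw [← Scheme.Hom.comp_apply, hw2]
          exact h₂ (Set.mem_univ z)
      have c1 := Scheme.Hom.appLE_comp_appLE w a.act.left (φ.left ⁻¹ᵁ U)
        (a.act.left ⁻¹ᵁ (φ.left ⁻¹ᵁ U) ⊓ (snd G X).left ⁻¹ᵁ (φ.left ⁻¹ᵁ U)) ⊤ inf_le_left hwW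
      have c2 := Scheme.Hom.appLE_comp_appLE w (snd G X).left (φ.left ⁻¹ᵁ U)
        (a.act.left ⁻¹ᵁ (φ.left ⁻¹ᵁ U) ⊓ (snd G X).left ⁻¹ᵁ (φ.left ⁻¹ᵁ U)) ⊤ inf_le_right hwW
      have d1 : g₁.appLE (φ.left ⁻¹ᵁ U) ⊤ h₁ =
          a.act.left.appLE (φ.left ⁻¹ᵁ U) _ inf_le_left ≫ w.appLE _ ⊤ hwW :=
        (appLE_of_eq hw1.symm (φ.left ⁻¹ᵁ U) ⊤ h₁).trans c1.symm
      have d2 : g₂.appLE (φ.left ⁻¹ᵁ U) ⊤ h₂ =
          (snd G X).left.appLE (φ.left ⁻¹ᵁ U) _ inf_le_right ≫ w.appLE _ ⊤ hwW :=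
        (appLE_of_eq hw2.symm (φ.left ⁻¹ᵁ U) ⊤ h₂).trans c2.symm
      have e1 : (g₁.appLE (φ.left ⁻¹ᵁ U) ⊤ h₁).hom f =
          (w.appLE _ ⊤ hwW).hom ((a.act.left.appLE (φ.left ⁻¹ᵁ U) _ inf_le_left).hom f) :=
        congrArg (fun m : Γ(X.left, φ.left ⁻¹ᵁ U) ⟶ Γ(Z, ⊤) => m.hom f) d1
      have e2 : (g₂.appLE (φ.left ⁻¹ᵁ U) ⊤ h₂).hom f =
          (w.appLE _ ⊤ hwW).hom (((snd G X).left.appLE (φ.left ⁻¹ᵁ U) _ inf_le_right).hom f) :=
        congrArg (fun m : Γ(X.left, φ.left ⁻¹ᵁ U) ⟶ Γ(Z, ⊤) => m.hom f) d2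
      exact e1.trans ((congrArg (w.appLE _ ⊤ hwW).hom hf).trans e2.symm))
    exact ⟨s, hs⟩

include a hc in
theorem isGeomQuot_of_cart [IsAffineHom G.hom] [Flat G.hom]
    (hloc : NonAbH1.IsLocallyTrivialFor Scheme.fpqcPrecoverage (Over.mk φ.left : Over Y.left)) :
    IsAffineHom φ.left ∧ GIT.IsGeomQuot a φ := by
  haveI : IsAffineHom φ.left := prop_of_cart a φ hc @IsAffineHom hloc inferInstance
  haveI : Flat φ.left := prop_of_cart a φ hc @Flat hloc inferInstance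
  haveI : Surjective φ.left :=
    prop_of_cart a φ hc @Surjective hloc Groth.Agent.H3.TorsorProp.surjective_hom
  refine ⟨inferInstance, ?_⟩
  have hinv : GIT.IsInvariant a φ := hc.w
  refine ⟨hinv, φ.left.surjective, ?_, ?_, fun U => isInvSection_iff a φ hc U⟩
  · have hl : IsPullback a.act.left (snd G X).left φ.left φ.left := hc.map (Over.forget S)
    have : GIT.PsiY a φ hinv = hl.isoPullback.hom := by
      apply pullback.hom_ext
      · rw [hl.isoPullback_hom_fst]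
        exact pullback.lift_fst _ _ _
      · rw [hl.isoPullback_hom_snd]
        exact pullback.lift_snd _ _ _
    rw [this]
    exact hl.isoPullback.hom.surjective
  · intro X' Y' i₁ i₂ f' H
    haveI : Flat f' := MorphismProperty.of_isPullback (P := @Flat) H.flip inferInstance
    haveI : Surjective f' := MorphismProperty.of_isPullback (P := @Surjective) H.flip inferInstance
    haveI : QuasiCompact f' :=
      MorphismProperty.of_isPullback (P := @QuasiCompact) H.flip inferInstance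
    exact Flat.isQuotientMap_of_surjective f'

end Groth.Agent.H8.Tors
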