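import Mathlib
import Groth.Prelude.Def_FrameBundle
import Groth.Agent.H4.GaGm

/-!
# Points of `GL_{n,S}` as invertible matrices of global functions (helper8)
-/

set_option autoImplicit false
universe u
open CategoryTheory MonoidalCategory CartesianMonoidalCategory MonObj GrpObj AlgebraicGeometry Limits
  TensorProduct
open Groth.Agent.H4.GaGm

namespace Groth.Agent.H8.Tors

variable {S : Scheme.{u}} {X : Over S} (n : ℕ)

/-- evaluation of a point of `GL_{n,S}` on the coordinate ring -/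
noncomputable def glEv (x : X ⟶ FrB.GLn n S) : CoordGrp.GLn n (ULift.{u} ℤ) →+* Γ(X.left, ⊤) :=
  ev (tr (fZ S) (FrB.GLZ n) x)

/-- the matrix of a point of `GL_{n,S}` -/
noncomputable def glFn (x : X ⟶ FrB.GLn n S) : Matrix (Fin n) (Fin n) Γ(X.left, ⊤) :=
  fun i j => glEv n x (CoordGrp.GLn.X i j)

variable {n}

theorem glFn_mul (x y : X ⟶ FrB.GLn n S) : glFn n (x * y) = glFn n x * glFn n y := by
  ext i j
  rw [Matrix.mul_apply]
  show ev (tr (fZ S) (FrB.GLZ n) (x * y)) (CoordGrp.GLn.X i j) = _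
  rw [tr_mul, ev_mul, CoordGrp.GLn.comul_X, map_sum]
  refine Finset.sum_congr rfl fun l _ => ?_
  rw [ev₂_tmul]
  rfl

theorem glFn_det (x : X ⟶ FrB.GLn n S) :
    (glFn n x).det * glEv n x CoordGrp.GLn.Dinv = 1 := by
  have h1 : (glFn n x).det = glEv n x CoordGrp.GLn.det := by
    rw [CoordGrp.GLn.det_eq, RingHom.map_det]
    rfl
  rw [h1, ← map_mul, CoordGrp.GLn.det_mul_Dinv, map_one]

theorem isUnit_glFn (x : X ⟶ FrB.GLn n S) : IsUnit (glFn n x) := by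
  rw [Matrix.isUnit_iff_isUnit_det]
  exact IsUnit.of_mul_eq_one _ (glFn_det x)

theorem ringHom_ext_gl {B : Type*} [CommRing B] (φ ψ : CoordGrp.GLn n (ULift.{u} ℤ) →+* B)
    (h : ∀ i j, φ (CoordGrp.GLn.X i j) = ψ (CoordGrp.GLn.X i j)) : φ = ψ := by
  letI : Algebra (ULift.{u} ℤ) B := (φ.comp (algebraMap _ _)).toAlgebra
  let φ' : CoordGrp.GLn n (ULift.{u} ℤ) →ₐ[ULift.{u} ℤ] B := { φ with commutes' := fun r => rfl }
  have hψ : ∀ r : ULift.{u} ℤ, ψ (algebraMap _ _ r) = algebraMap (ULift.{u} ℤ) B r := by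
    intro r
    have h0 := ringHom_ext_uliftZ (ψ.comp (algebraMap (ULift.{u} ℤ) (CoordGrp.GLn n (ULift.{u} ℤ))))
      (φ.comp (algebraMap (ULift.{u} ℤ) (CoordGrp.GLn n (ULift.{u} ℤ))))
    exact congrArg (fun f : ULift.{u} ℤ →+* B => f r) h0
  let ψ' : CoordGrp.GLn n (ULift.{u} ℤ) →ₐ[ULift.{u} ℤ] B := { ψ with commutes' := hψ }
  have hdet : φ CoordGrp.GLn.det = ψ CoordGrp.GLn.det := by
    rw [CoordGrp.GLn.det_eq, RingHom.map_det, RingHom.map_det]
    congr 1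
    ext i j
    exact h i j
  have h1 : φ CoordGrp.GLn.det * φ CoordGrp.GLn.Dinv = 1 := by
    rw [← map_mul, CoordGrp.GLn.det_mul_Dinv, map_one]
  have h2 : ψ CoordGrp.GLn.det * ψ CoordGrp.GLn.Dinv = 1 := by
    rw [← map_mul, CoordGrp.GLn.det_mul_Dinv, map_one]
  have hD : φ CoordGrp.GLn.Dinv = ψ CoordGrp.GLn.Dinv := by
    calc φ CoordGrp.GLn.Dinv = φ CoordGrp.GLn.Dinv * (ψ CoordGrp.GLn.det * ψ CoordGrp.GLn.Dinv) := by
          rw [h2, _root_.mul_one]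
      _ = (φ CoordGrp.GLn.det * φ CoordGrp.GLn.Dinv) * ψ CoordGrp.GLn.Dinv := by
          rw [hdet]; ring
      _ = ψ CoordGrp.GLn.Dinv := by rw [h1, _root_.one_mul]
  have h3 : φ' = ψ' := CoordGrp.GLn.algHom_ext (f := φ') (g := ψ') h hD
  ext a
  exact congrArg (fun f : CoordGrp.GLn n (ULift.{u} ℤ) →ₐ[ULift.{u} ℤ] B => f a) h3

theorem exists_ringHom_gl {B : Type*} [CommRing B] (M : Matrix (Fin n) (Fin n) B) (hM : IsUnit M) :
    ∃ φ : CoordGrp.GLn n (ULift.{u} ℤ) →+* B, ∀ i j, φ (CoordGrp.GLn.X i j) = M i j := by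
  letI : Algebra (ULift.{u} ℤ) B :=
    ((Int.castRingHom B).comp (ULift.ringEquiv : ULift.{u} ℤ ≃+* ℤ).toRingHom).toAlgebra
  have hd : IsUnit M.det := (Matrix.isUnit_iff_isUnit_det M).mp hM
  obtain ⟨d, hd⟩ := hd.exists_right_inv
  exact ⟨(CoordGrp.GLn.pt n (ULift.{u} ℤ) M d hd).toRingHom, fun i j =>
    CoordGrp.GLn.pt_X M d hd i j⟩

theorem glFn_injective : Function.Injective (glFn n (S := S) (X := X)) := by
  intro x y h
  apply tr_injective (fZ S) (FrB.GLZ n)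
  apply ev_injective
  apply ringHom_ext_gl
  intro i j
  exact congrFun (congrFun h i) j

theorem exists_glFn_eq (M : Matrix (Fin n) (Fin n) Γ(X.left, ⊤)) (hM : IsUnit M) :
    ∃ z : X ⟶ FrB.GLn n S, glFn n z = M := by
  obtain ⟨φ, hφ⟩ := exists_ringHom_gl (B := Γ(X.left, ⊤)) M hM
  refine ⟨(Over.mapPullbackAdj (fZ S)).homEquiv X (FrB.GLZ n) (pt φ), ?_⟩
  have : tr (fZ S) (FrB.GLZ n)
      ((Over.mapPullbackAdj (fZ S)).homEquiv X (FrB.GLZ n) (pt φ)) = pt φ := by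
    simp [tr]
  ext i j
  show ev (tr (fZ S) (FrB.GLZ n) _) (CoordGrp.GLn.X i j) = M i j
  rw [this, ev_pt, hφ]

theorem glFn_comp {X' : Over S} (π : X' ⟶ X) (x : X ⟶ FrB.GLn n S) :
    glFn n (π ≫ x) = (glFn n x).map π.left.appTop.hom := by
  ext i j
  show ev (tr (fZ S) (FrB.GLZ n) (π ≫ x)) (CoordGrp.GLn.X i j) =
    π.left.appTop.hom (ev (tr (fZ S) (FrB.GLZ n) x) (CoordGrp.GLn.X i j))
  unfold ev
  rw [tr_left, tr_left, Over.comp_left, Category.assoc, Scheme.Hom.comp_appTop]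
  rfl

end Groth.Agent.H8.Tors
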