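import Mathlib

set_option autoImplicit false
universe u
open TensorProduct

namespace Groth.Agent.H8.Tors

section
variable (A B : Type u) [CommRing A] [CommRing B] [Algebra A B]

/-- `b ↦ b ⊗ 1` -/
noncomputable def dl : B →ₐ[A] B ⊗[A] B := Algebra.TensorProduct.includeLeft
/-- `b ↦ 1 ⊗ b` -/
noncomputable def dr : B →ₐ[A] B ⊗[A] B := Algebra.TensorProduct.includeRight
/-- `x ⊗ y ↦ (1 ⊗ x) ⊗ y` -/
noncomputable def δ0 : B ⊗[A] B →ₐ[A] (B ⊗[A] B) ⊗[A] B :=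
  Algebra.TensorProduct.map (dr A B) (AlgHom.id A B)
/-- `x ⊗ y ↦ (x ⊗ 1) ⊗ y` -/
noncomputable def δ1 : B ⊗[A] B →ₐ[A] (B ⊗[A] B) ⊗[A] B :=
  Algebra.TensorProduct.map (dl A B) (AlgHom.id A B)
/-- `x ⊗ y ↦ (x ⊗ y) ⊗ 1` -/
noncomputable def δ2 : B ⊗[A] B →ₐ[A] (B ⊗[A] B) ⊗[A] B :=
  Algebra.TensorProduct.includeLeft

/-- Amitsur differential in degree 0: `b ↦ 1 ⊗ b - b ⊗ 1`. -/
noncomputable def d0 : B →ₗ[A] B ⊗[A] B := (dr A B).toLinearMap - (dl A B).toLinearMap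
/-- Amitsur differential in degree 1. -/
noncomputable def d1 : B ⊗[A] B →ₗ[A] (B ⊗[A] B) ⊗[A] B :=
  (δ0 A B).toLinearMap - (δ1 A B).toLinearMap + (δ2 A B).toLinearMap

lemma d1_comp_d0 : d1 A B ∘ₗ d0 A B = 0 := by
  ext b
  simp [d0, d1, δ0, δ1, δ2, dl, dr]
  rw [sub_tmul]
  abel

/-- contracting homotopy `s ⊗ (x ⊗ y) ↦ (s x) ⊗ y` -/
noncomputable def h1 : B ⊗[A] (B ⊗[A] B) →ₗ[A] B ⊗[A] B :=
  (TensorProduct.map (LinearMap.mul' A B) LinearMap.id) ∘ₗ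
    (TensorProduct.assoc A B B B).symm.toLinearMap

/-- contracting homotopy `s ⊗ ((x ⊗ y) ⊗ z) ↦ (s x) ⊗ (y ⊗ z)` -/
noncomputable def h2 : B ⊗[A] ((B ⊗[A] B) ⊗[A] B) →ₗ[A] B ⊗[A] (B ⊗[A] B) :=
  (TensorProduct.map (LinearMap.mul' A B) LinearMap.id) ∘ₗ
    (TensorProduct.assoc A B B (B ⊗[A] B)).symm.toLinearMap ∘ₗ
    ((TensorProduct.assoc A B B B).toLinearMap.lTensor B)

lemma homotopy : (d0 A B).lTensor B ∘ₗ h1 A B + h2 A B ∘ₗ (d1 A B).lTensor B = LinearMap.id := by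
  ext s x y
  simp [d0, d1, δ0, δ1, δ2, dl, dr, h1, h2]

theorem exists_of_d1_eq_zero [Module.FaithfullyFlat A B] (γ : B ⊗[A] B) (h : d1 A B γ = 0) :
    ∃ b : B, γ = d0 A B b := by
  have hex : Function.Exact (d0 A B) (d1 A B) := by
    apply Module.FaithfullyFlat.lTensor_reflects_exact A B
    intro w
    constructor
    · intro hw
      refine ⟨h1 A B w, ?_⟩
      have h3 := congr($(homotopy A B) w)
      simp only [LinearMap.add_apply, LinearMap.comp_apply, hw, map_zero, add_zero,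
        LinearMap.id_apply] at h3
      exact h3
    · rintro ⟨v, rfl⟩
      rw [← LinearMap.comp_apply, ← LinearMap.lTensor_comp, d1_comp_d0, LinearMap.lTensor_zero]
      rfl
  obtain ⟨b, hb⟩ := (hex γ).mp h
  exact ⟨b, hb.symm⟩

end

end Groth.Agent.H8.Tors
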