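import Mathlib
import Groth.Agent.Lib.Helper8.Tors.Amitsur
import Groth.Agent.Lib.Helper8.Tors.Pts

/-!
# fpqc torsors under a group with an additive coordinate are trivial over affine bases (helper8)
-/

set_option autoImplicit false
universe u
open CategoryTheory CategoryTheory.Limits MonoidalCategory CartesianMonoidalCategory MonObj
  AlgebraicGeometry TensorProduct

namespace Groth.Agent.H8.Tors

variable {S : Scheme.{u}}

/-- An additive coordinate on a group object `G` over `S`: a natural isomorphism of groups between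
`G(T)` and the additive group of global functions of `T`. -/
structure Coord (G : Over S) [GrpObj G] where
  /-- the coordinate function of a point -/
  fn : ∀ {T : Over S}, (T ⟶ G) → Γ(T.left, ⊤)
  fn_mul : ∀ {T : Over S} (x y : T ⟶ G), fn (x * y) = fn x + fn y
  fn_inj : ∀ {T : Over S}, Function.Injective (fn (T := T))
  fn_surj : ∀ {T : Over S}, Function.Surjective (fn (T := T))
  fn_comp : ∀ {T T' : Over S} (π : T' ⟶ T) (x : T ⟶ G),
    fn (π ≫ x) = π.left.appTop.hom (fn x)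

variable {G X : Over S} [GrpObj G] (a : AlgGrp.Action G X)

/-- Core statement: a pseudo-torsor under a group with an additive coordinate, which over
`Spec A ⟶ S` is covered by a faithfully flat `Spec B`, has a section over `Spec A`. -/
theorem exists_section_affine (c : Coord G) (hpt : NonAbH1.IsPseudoTorsorSch a)
    (A B : Type u) [CommRing A] [CommRing B] [Algebra A B] [Module.FaithfullyFlat A B]
    (ιU : Spec (CommRingCat.of A) ⟶ S) (ιV : Spec (CommRingCat.of B) ⟶ X.left)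
    (hιV : ιV ≫ X.hom = Spec.map (CommRingCat.ofHom (algebraMap A B)) ≫ ιU) :
    ∃ r : Spec (CommRingCat.of A) ⟶ X.left, r ≫ X.hom = ιU := by
  -- rings and ring maps
  let αc : CommRingCat.of A ⟶ CommRingCat.of B := CommRingCat.ofHom (algebraMap A B)
  let il : CommRingCat.of B ⟶ CommRingCat.of (B ⊗[A] B) := CommRingCat.ofHom (dl A B).toRingHom
  let ir : CommRingCat.of B ⟶ CommRingCat.of (B ⊗[A] B) := CommRingCat.ofHom (dr A B).toRingHom
  let e0 : CommRingCat.of (B ⊗[A] B) ⟶ CommRingCat.of ((B ⊗[A] B) ⊗[A] B) :=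
    CommRingCat.ofHom (δ0 A B).toRingHom
  let e1 : CommRingCat.of (B ⊗[A] B) ⟶ CommRingCat.of ((B ⊗[A] B) ⊗[A] B) :=
    CommRingCat.ofHom (δ1 A B).toRingHom
  let e2 : CommRingCat.of (B ⊗[A] B) ⟶ CommRingCat.of ((B ⊗[A] B) ⊗[A] B) :=
    CommRingCat.ofHom (δ2 A B).toRingHom
  -- any two maps out of `B` agreeing on `A` give the same structure morphism
  have hov : ∀ {R : CommRingCat.{u}} (φ ψ : CommRingCat.of B ⟶ R), αc ≫ φ = αc ≫ ψ →
      Spec.map φ ≫ ιV ≫ X.hom = Spec.map ψ ≫ ιV ≫ X.hom := by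
    intro R φ ψ h
    rw [hιV, ← Spec.map_comp_assoc, ← Spec.map_comp_assoc, h]
  have hα : αc ≫ il = αc ≫ ir := by
    ext x
    change (dl A B) (algebraMap A B x) = (dr A B) (algebraMap A B x)
    rw [AlgHom.commutes, AlgHom.commutes]
  have h20 : il ≫ e2 = il ≫ e1 := by
    ext x
    change (δ2 A B) ((dl A B) x) = (δ1 A B) ((dl A B) x)
    simp [δ1, δ2, dl]
  have h21 : ir ≫ e2 = il ≫ e0 := by
    ext x
    change (δ2 A B) ((dr A B) x) = (δ0 A B) ((dl A B) x)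
    simp [δ0, δ2, dl, dr]
  have h22 : ir ≫ e0 = ir ≫ e1 := by
    ext x
    change (δ0 A B) ((dr A B) x) = (δ1 A B) ((dr A B) x)
    simp [δ0, δ1, dl, dr]
  -- objects over `S`
  let T1 : Over S := Over.mk (ιV ≫ X.hom)
  let p1 : T1 ⟶ X := Over.homMk ιV rfl
  let T2 : Over S := Over.mk (Spec.map il ≫ ιV ≫ X.hom)
  let q1 : T2 ⟶ T1 := Over.homMk (Spec.map il) rfl
  let q2 : T2 ⟶ T1 := Over.homMk (Spec.map ir) (hov ir il hα.symm)
  let T3 : Over S := Over.mk (Spec.map e2 ≫ Spec.map il ≫ ιV ≫ X.hom)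
  let r2 : T3 ⟶ T2 := Over.homMk (Spec.map e2) rfl
  have hA3 : αc ≫ il ≫ e0 = αc ≫ il ≫ e2 := by
    ext x
    change (δ0 A B) ((dl A B) (algebraMap A B x)) = (δ2 A B) ((dl A B) (algebraMap A B x))
    rw [AlgHom.commutes, AlgHom.commutes, AlgHom.commutes]
  have hA3' : αc ≫ il ≫ e1 = αc ≫ il ≫ e2 := by
    ext x
    change (δ1 A B) ((dl A B) (algebraMap A B x)) = (δ2 A B) ((dl A B) (algebraMap A B x))
    rw [AlgHom.commutes, AlgHom.commutes, AlgHom.commutes]
  let r0 : T3 ⟶ T2 := Over.homMk (Spec.map e0) (by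
    change Spec.map e0 ≫ Spec.map il ≫ ιV ≫ X.hom = Spec.map e2 ≫ Spec.map il ≫ ιV ≫ X.hom
    rw [← Spec.map_comp_assoc, ← Spec.map_comp_assoc]
    exact hov _ _ hA3)
  let r1 : T3 ⟶ T2 := Over.homMk (Spec.map e1) (by
    change Spec.map e1 ≫ Spec.map il ≫ ιV ≫ X.hom = Spec.map e2 ≫ Spec.map il ≫ ιV ≫ X.hom
    rw [← Spec.map_comp_assoc, ← Spec.map_comp_assoc]
    exact hov _ _ hA3')
  have hx : r2 ≫ q1 = r1 ≫ q1 := by
    apply Over.OverMorphism.ext
    change Spec.map e2 ≫ Spec.map il = Spec.map e1 ≫ Spec.map il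
    rw [← Spec.map_comp, ← Spec.map_comp, h20]
  have hy : r2 ≫ q2 = r0 ≫ q1 := by
    apply Over.OverMorphism.ext
    change Spec.map e2 ≫ Spec.map ir = Spec.map e0 ≫ Spec.map il
    rw [← Spec.map_comp, ← Spec.map_comp, h21]
  have hz : r0 ≫ q2 = r1 ≫ q2 := by
    apply Over.OverMorphism.ext
    change Spec.map e0 ≫ Spec.map ir = Spec.map e1 ≫ Spec.map ir
    rw [← Spec.map_comp, ← Spec.map_comp, h22]
  -- the cocycle
  let g : T2 ⟶ G := diff a hpt (q1 ≫ p1) (q2 ≫ p1)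
  have hcoc : (r2 ≫ g) * (r0 ≫ g) = r1 ≫ g := by
    simp only [g, comp_diff, ← Category.assoc]
    rw [hy, ← hx, hz, diff_mul]
  let cg : B ⊗[A] B := (Scheme.ΓSpecIso (CommRingCat.of (B ⊗[A] B))).hom (c.fn g)
  have hnat : ∀ {R R' : CommRingCat.{u}} (φ : R ⟶ R') (y : Γ(Spec R, ⊤)),
      (Scheme.ΓSpecIso R').hom ((Spec.map φ).appTop y) = φ ((Scheme.ΓSpecIso R).hom y) :=
    fun φ y => congr($(Scheme.ΓSpecIso_naturality φ) y)
  have hfn : ∀ (e : CommRingCat.of (B ⊗[A] B) ⟶ CommRingCat.of ((B ⊗[A] B) ⊗[A] B))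
      (r : T3 ⟶ T2), r.left = Spec.map e →
      (Scheme.ΓSpecIso (CommRingCat.of ((B ⊗[A] B) ⊗[A] B))).hom (c.fn (r ≫ g)) = e cg := by
    intro e r hr
    rw [c.fn_comp, hr]
    exact hnat e (c.fn g)
  have hd1 : d1 A B cg = 0 := by
    have h1 := congrArg (Scheme.ΓSpecIso (CommRingCat.of ((B ⊗[A] B) ⊗[A] B))).hom
      (congrArg c.fn hcoc)
    rw [c.fn_mul, map_add, hfn e2 r2 rfl, hfn e0 r0 rfl, hfn e1 r1 rfl] at h1
    change (δ0 A B) cg - (δ1 A B) cg + (δ2 A B) cg = 0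
    have h2 : (δ2 A B) cg + (δ0 A B) cg = (δ1 A B) cg := h1
    rw [← h2]; abel
  obtain ⟨b, hb⟩ := exists_of_d1_eq_zero A B cg hd1
  have hb' : cg = (dr A B) b - (dl A B) b := hb
  obtain ⟨β, hβ⟩ := c.fn_surj (T := T1) ((Scheme.ΓSpecIso (CommRingCat.of B)).inv b)
  let σ1 : T1 ⟶ X := sm a β p1
  have hβg : (q1 ≫ β) * g = q2 ≫ β := by
    apply c.fn_inj
    rw [c.fn_mul, c.fn_comp, c.fn_comp, hβ]
    apply (ConcreteCategory.bijective_of_isIso
      (Scheme.ΓSpecIso (CommRingCat.of (B ⊗[A] B))).hom).1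
    rw [map_add]
    change (Scheme.ΓSpecIso _).hom ((Spec.map il).appTop _) + cg =
      (Scheme.ΓSpecIso _).hom ((Spec.map ir).appTop _)
    rw [hnat il, hnat ir]
    have h3 : (Scheme.ΓSpecIso (CommRingCat.of B)).hom
        ((Scheme.ΓSpecIso (CommRingCat.of B)).inv b) = b := by
      rw [← CommRingCat.comp_apply, Iso.inv_hom_id]; rfl
    rw [h3, hb']
    change (dl A B) b + ((dr A B) b - (dl A B) b) = (dr A B) b
    abel
  have hσ : q1 ≫ σ1 = q2 ≫ σ1 := by
    simp only [σ1, comp_sm]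
    have h4 : q1 ≫ p1 = sm a g (q2 ≫ p1) := (sm_diff a hpt _ _).symm
    rw [h4, ← sm_mul, hβg]
  -- descent along the fpqc cover `Spec B ⟶ Spec A`
  have hff : Flat (Spec.map αc) ∧ Surjective (Spec.map αc) :=
    (flat_and_surjective_SpecMap_iff αc).mpr
      (RingHom.faithfullyFlat_algebraMap_iff.mpr inferInstance)
  have := hff.1
  have := hff.2
  have hpb : IsPullback (Spec.map il) (Spec.map ir) (Spec.map αc) (Spec.map αc) :=
    isPullback_SpecMap_of_isPushout _ _ _ _ (CommRingCat.isPushout_tensorProduct A B B)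
  have hσl : Spec.map il ≫ σ1.left = Spec.map ir ≫ σ1.left := congrArg (fun m => m.left) hσ
  obtain ⟨r, hr⟩ : ∃ r : Spec (CommRingCat.of A) ⟶ X.left, Spec.map αc ≫ r = σ1.left := by
    have hdesc : ∀ {Z : Scheme.{u}} (g₁ g₂ : Z ⟶ Spec (CommRingCat.of B)),
        g₁ ≫ Spec.map αc = g₂ ≫ Spec.map αc → g₁ ≫ σ1.left = g₂ ≫ σ1.left := by
      intro Z g₁ g₂ hg
      rw [← hpb.lift_fst g₁ g₂ hg, Category.assoc, hσl, ← Category.assoc, hpb.lift_snd]
    exact ⟨EffectiveEpi.desc (Spec.map αc) σ1.left hdesc, EffectiveEpi.fac _ _ hdesc⟩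
  refine ⟨r, ?_⟩
  rw [← cancel_epi (Spec.map αc), ← Category.assoc, hr, ← hιV]
  exact Over.w σ1

end Groth.Agent.H8.Tors
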