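import Mathlib
import Groth.Agent.Lib.Helper8.Tors.Amitsur

/-!
# Hilbert 90 for faithfully flat ring maps, Zariski-local form (helper8)

`A → B` faithfully flat, `u ∈ (B ⊗ B)ˣ` a multiplicative 1-cocycle of the Amitsur complex. Then for
every prime `p` of `A` there are `f ∉ p` and `x ∈ B`, invertible over `A_f`, with
`(x ⊗ 1) u = 1 ⊗ x`.
-/

set_option autoImplicit false
universe u
open TensorProduct

namespace Groth.Agent.H8.Tors

section
variable (A B : Type u) [CommRing A] [CommRing B] [Algebra A B]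

/-- multiplication `B ⊗ B → B` -/
noncomputable def μ : B ⊗[A] B →ₐ[A] B := Algebra.TensorProduct.lmul' A

/-- `(x ⊗ y) ⊗ z ↦ (x y) ⊗ z` -/
noncomputable def ν : (B ⊗[A] B) ⊗[A] B →ₐ[A] B ⊗[A] B :=
  Algebra.TensorProduct.map (μ A B) (AlgHom.id A B)

lemma μ_dl (b : B) : μ A B (dl A B b) = b := by simp [μ, dl]

lemma μ_tmul (x y : B) : μ A B (x ⊗ₜ[A] y) = x * y := by simp [μ]

lemma ν_δ0 (w : B ⊗[A] B) : ν A B (δ0 A B w) = w := by
  induction w using TensorProduct.induction_on with
  | zero => simp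
  | tmul x y => simp [ν, μ, δ0, dr]
  | add x y hx hy => rw [map_add, map_add, hx, hy]

lemma ν_δ1 (w : B ⊗[A] B) : ν A B (δ1 A B w) = w := by
  induction w using TensorProduct.induction_on with
  | zero => simp
  | tmul x y => simp [ν, μ, δ1, dl]
  | add x y hx hy => rw [map_add, map_add, hx, hy]

lemma ν_δ2 (w : B ⊗[A] B) : ν A B (δ2 A B w) = dl A B (μ A B w) := by
  simp [ν, δ2, dl]

/-- contracting homotopy in degree 0: `s ⊗ x ↦ (s x) ⊗ 1` -/
noncomputable def h0 : B ⊗[A] B →ₗ[A] B ⊗[A] A :=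
  ((TensorProduct.mk A B A).flip 1) ∘ₗ (LinearMap.mul' A B)

lemma homotopy0 : (Algebra.linearMap A B).lTensor B ∘ₗ h0 A B + h1 A B ∘ₗ (d0 A B).lTensor B
    = LinearMap.id := by
  ext s x
  simp [d0, dl, dr, h0, h1]

lemma d0_comp_linearMap : d0 A B ∘ₗ Algebra.linearMap A B = 0 := by
  ext
  simp [d0, dl, dr]

theorem exists_of_d0_eq_zero [Module.FaithfullyFlat A B] (z : B) (h : dl A B z = dr A B z) :
    ∃ a : A, algebraMap A B a = z := by
  have hex : Function.Exact (Algebra.linearMap A B) (d0 A B) := by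
    apply Module.FaithfullyFlat.lTensor_reflects_exact A B
    intro w
    constructor
    · intro hw
      refine ⟨h0 A B w, ?_⟩
      have h3 := congr($(homotopy0 A B) w)
      simp only [LinearMap.add_apply, LinearMap.comp_apply, hw, map_zero, add_zero,
        LinearMap.id_apply] at h3
      exact h3
    · rintro ⟨v, rfl⟩
      rw [← LinearMap.comp_apply, ← LinearMap.lTensor_comp, d0_comp_linearMap,
        LinearMap.lTensor_zero]
      rfl
  have hz : d0 A B z = 0 := by simp [d0, h]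
  obtain ⟨a, ha⟩ := (hex z).mp hz
  exact ⟨a, ha⟩

end

section
variable {A B : Type u} [CommRing A] [CommRing B] [Algebra A B]

/-- `x ↦ (x ⊗ 1) u - 1 ⊗ x` -/
noncomputable def φ (u : B ⊗[A] B) : B →ₗ[A] B ⊗[A] B :=
  (LinearMap.mulRight A u) ∘ₗ (dl A B).toLinearMap - (dr A B).toLinearMap

lemma φ_apply (u : B ⊗[A] B) (x : B) : φ u x = dl A B x * u - dr A B x := by
  simp [φ]

lemma mem_ker_φ (u : B ⊗[A] B) (x : B) : x ∈ LinearMap.ker (φ u) ↔ dl A B x * u = dr A B x := by
  rw [LinearMap.mem_ker, φ_apply, sub_eq_zero]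

lemma φ_rTensor (u w : B ⊗[A] B) :
    (φ u).rTensor B w = δ1 A B w * δ2 A B u - δ0 A B w := by
  induction w using TensorProduct.induction_on with
  | zero => simp
  | tmul x b =>
    simp only [LinearMap.rTensor_tmul, φ_apply, sub_tmul]
    simp [δ0, δ1, δ2]
  | add x y hx hy => rw [map_add, map_add, map_add, hx, hy]; ring

lemma μ_eq_one (u v : B ⊗[A] B) (huv : u * v = 1) (hc : δ2 A B u * δ0 A B u = δ1 A B u) :
    μ A B u = 1 := by
  have h1 := congrArg (ν A B) hc
  rw [map_mul, ν_δ2, ν_δ0, ν_δ1] at h1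
  have h2 : dl A B (μ A B u) = 1 := by
    calc dl A B (μ A B u) = dl A B (μ A B u) * u * v := by rw [mul_assoc, huv, mul_one]
      _ = u * v := by rw [h1]
      _ = 1 := huv
  have := congrArg (μ A B) h2
  rwa [μ_dl, map_one] at this

lemma span_ker_φ [Module.Flat A B] (u v : B ⊗[A] B) (huv : u * v = 1)
    (hc : δ2 A B u * δ0 A B u = δ1 A B u) :
    Ideal.span ((LinearMap.ker (φ u) : Submodule A B) : Set B) = ⊤ := by
  have hv : (φ u).rTensor B v = 0 := by
    rw [φ_rTensor, sub_eq_zero]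
    have h0 : δ0 A B u * δ0 A B v = 1 := by rw [← map_mul, huv, map_one]
    have h1 : δ1 A B v * δ1 A B u = 1 := by rw [← map_mul, mul_comm, huv, map_one]
    calc δ1 A B v * δ2 A B u = δ1 A B v * δ2 A B u * (δ0 A B u * δ0 A B v) := by
          rw [h0, mul_one]
      _ = δ1 A B v * (δ2 A B u * δ0 A B u) * δ0 A B v := by ring
      _ = δ0 A B v := by rw [hc, h1, one_mul]
  have hex := Module.Flat.rTensor_exact B (LinearMap.exact_subtype_ker_map (φ u))
  obtain ⟨z, hz⟩ := (hex v).mp hv
  have hμu : μ A B u = 1 := μ_eq_one u v huv hc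
  have hμv : μ A B v = 1 := by
    have := congrArg (μ A B) huv
    rw [map_mul, hμu, one_mul, map_one] at this
    exact this
  have key : ∀ z : (LinearMap.ker (φ u)) ⊗[A] B,
      μ A B ((LinearMap.ker (φ u)).subtype.rTensor B z) ∈
        Ideal.span ((LinearMap.ker (φ u) : Submodule A B) : Set B) := by
    intro z
    induction z using TensorProduct.induction_on with
    | zero => simp
    | tmul x b =>
      simp only [LinearMap.rTensor_tmul, Submodule.subtype_apply]
      rw [μ_tmul]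
      exact Ideal.mul_mem_right _ _ (Ideal.subset_span x.2)
    | add x y hx hy => rw [map_add, map_add]; exact Ideal.add_mem _ hx hy
  rw [Ideal.eq_top_iff_one, ← hμv, ← hz]
  exact key z

/-- Hilbert 90, Zariski-local form. -/
theorem hilbert90 [Module.FaithfullyFlat A B] (u v : B ⊗[A] B) (huv : u * v = 1)
    (hc : δ2 A B u * δ0 A B u = δ1 A B u) (p : Ideal A) [p.IsPrime] :
    ∃ f : A, f ∉ p ∧ ∃ x y : B, x * y = algebraMap A B f ∧ dl A B x * u = dr A B x := by
  have hvu : v * u = 1 := by rw [mul_comm]; exact huv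
  have hcv : δ2 A B v * δ0 A B v = δ1 A B v := by
    have h0 : δ0 A B u * δ0 A B v = 1 := by rw [← map_mul, huv, map_one]
    have h1 : δ1 A B u * δ1 A B v = 1 := by rw [← map_mul, huv, map_one]
    have h2 : δ2 A B u * δ2 A B v = 1 := by rw [← map_mul, huv, map_one]
    calc δ2 A B v * δ0 A B v = δ2 A B v * δ0 A B v * (δ1 A B u * δ1 A B v) := by
          rw [h1, mul_one]
      _ = (δ2 A B u * δ2 A B v) * (δ0 A B u * δ0 A B v) * δ1 A B v := by rw [← hc]; ring
      _ = δ1 A B v := by rw [h2, h0, one_mul, one_mul]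
  have hL := span_ker_φ u v huv hc
  have hL' := span_ker_φ v u hvu hcv
  let gen : Set A := {a | ∃ x ∈ LinearMap.ker (φ u), ∃ y ∈ LinearMap.ker (φ v),
    x * y = algebraMap A B a}
  have hprod : ∀ x ∈ LinearMap.ker (φ u), ∀ y ∈ LinearMap.ker (φ v),
      ∃ a, algebraMap A B a = x * y := by
    intro x hx y hy
    apply exists_of_d0_eq_zero
    have hx' := (mem_ker_φ u x).mp hx
    have hy' := (mem_ker_φ v y).mp hy
    rw [map_mul, map_mul, ← hx', ← hy']
    calc dl A B x * dl A B y = dl A B x * dl A B y * (u * v) := by rw [huv, mul_one]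
      _ = dl A B x * u * (dl A B y * v) := by ring
  have hI : Ideal.span gen = ⊤ := by
    rw [← Ideal.comap_map_eq_self_of_faithfullyFlat (B := B) (Ideal.span gen)]
    have hmap : (Ideal.span gen).map (algebraMap A B) = ⊤ := by
      rw [Ideal.eq_top_iff_one]
      have h1 : (1 : B) ∈ Ideal.span ((LinearMap.ker (φ u) : Submodule A B) : Set B) *
          Ideal.span ((LinearMap.ker (φ v) : Submodule A B) : Set B) := by
        rw [hL, hL']; simp
      rw [Ideal.span_mul_span'] at h1
      refine (Ideal.span_le.mpr ?_) h1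
      rintro _ ⟨x, hx, y, hy, rfl⟩
      obtain ⟨a, ha⟩ := hprod x hx y hy
      show x * y ∈ _
      rw [← ha]
      exact Ideal.mem_map_of_mem _ (Ideal.subset_span ⟨x, hx, y, hy, ha.symm⟩)
    rw [hmap, Ideal.comap_top]
  have hex : ∃ a ∈ gen, a ∉ p := by
    by_contra hcon
    push_neg at hcon
    have hle : Ideal.span gen ≤ p := Ideal.span_le.mpr hcon
    rw [hI] at hle
    exact (Ideal.IsPrime.ne_top inferInstance) (top_le_iff.mp hle)
  obtain ⟨a, ⟨x, hx, y, hy, hxy⟩, hap⟩ := hex
  exact ⟨a, hap, x, y, hxy, (mem_ker_φ u x).mp hx⟩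

end

end Groth.Agent.H8.Tors
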