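import Mathlib
import Groth.Agent.Lib.Helper8.Tors.H90
import Groth.Agent.Lib.Helper8.Tors.Pts

/-!
# fpqc torsors under a group with a multiplicative coordinate: local sections (helper8)
-/

set_option autoImplicit false
universe u
open CategoryTheory CategoryTheory.Limits MonoidalCategory CartesianMonoidalCategory MonObj
  AlgebraicGeometry TensorProduct

namespace Groth.Agent.H8.Tors

section rings
variable (A B A' : Type u) [CommRing A] [CommRing B] [Algebra A B] [CommRing A'] [Algebra A A']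

/-- `b ↦ 1 ⊗ b : B → A' ⊗ B` -/
noncomputable def κ : B →ₐ[A] A' ⊗[A] B := Algebra.TensorProduct.includeRight

/-- `B ⊗_A B → B' ⊗_{A'} B'` for `B' = A' ⊗_A B` -/
noncomputable def θ : B ⊗[A] B →ₐ[A] (A' ⊗[A] B) ⊗[A'] (A' ⊗[A] B) :=
  Algebra.TensorProduct.lift
    (((dl A' (A' ⊗[A] B)).restrictScalars A).comp (κ A B A'))
    (((dr A' (A' ⊗[A] B)).restrictScalars A).comp (κ A B A')) (fun _ _ => Commute.all _ _)

lemma θ_dl (x : B) : θ A B A' (dl A B x) = dl A' (A' ⊗[A] B) (κ A B A' x) := by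
  simp [θ, dl]

lemma θ_dr (x : B) : θ A B A' (dr A B x) = dr A' (A' ⊗[A] B) (κ A B A' x) := by
  simp [θ, dr]

lemma κ_alg (t : A) :
    κ A B A' (algebraMap A B t) = algebraMap A' (A' ⊗[A] B) (algebraMap A A' t) := by
  rw [AlgHom.commutes, IsScalarTower.algebraMap_apply A A' (A' ⊗[A] B)]

end rings

variable {S : Scheme.{u}}

/-- A multiplicative coordinate on a group object `G` over `S`: a natural isomorphism of groups
between `G(T)` and the units of the global functions of `T`. -/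
structure CoordM (G : Over S) [GrpObj G] where
  /-- the coordinate function of a point -/
  fn : ∀ {T : Over S}, (T ⟶ G) → Γ(T.left, ⊤)
  fn_mul : ∀ {T : Over S} (x y : T ⟶ G), fn (x * y) = fn x * fn y
  fn_unit : ∀ {T : Over S} (x : T ⟶ G), IsUnit (fn x)
  fn_inj : ∀ {T : Over S}, Function.Injective (fn (T := T))
  fn_surj : ∀ {T : Over S} (v : Γ(T.left, ⊤)), IsUnit v → ∃ x : T ⟶ G, fn x = v
  fn_comp : ∀ {T T' : Over S} (π : T' ⟶ T) (x : T ⟶ G),
    fn (π ≫ x) = π.left.appTop.hom (fn x)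

/-- descent of morphisms along a faithfully flat `Spec B ⟶ Spec A` -/
theorem exists_desc {Y : Scheme.{u}} (A B : Type u) [CommRing A] [CommRing B] [Algebra A B]
    [Module.FaithfullyFlat A B] (σ : Spec (CommRingCat.of B) ⟶ Y)
    (hσ : Spec.map (CommRingCat.ofHom (dl A B).toRingHom) ≫ σ =
      Spec.map (CommRingCat.ofHom (dr A B).toRingHom) ≫ σ) :
    ∃ r : Spec (CommRingCat.of A) ⟶ Y,
      Spec.map (CommRingCat.ofHom (algebraMap A B)) ≫ r = σ := by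
  let αc : CommRingCat.of A ⟶ CommRingCat.of B := CommRingCat.ofHom (algebraMap A B)
  let il : CommRingCat.of B ⟶ CommRingCat.of (B ⊗[A] B) := CommRingCat.ofHom (dl A B).toRingHom
  let ir : CommRingCat.of B ⟶ CommRingCat.of (B ⊗[A] B) := CommRingCat.ofHom (dr A B).toRingHom
  have hff : Flat (Spec.map αc) ∧ Surjective (Spec.map αc) :=
    (flat_and_surjective_SpecMap_iff αc).mpr
      (RingHom.faithfullyFlat_algebraMap_iff.mpr inferInstance)
  have := hff.1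
  have := hff.2
  have hpb : IsPullback (Spec.map il) (Spec.map ir) (Spec.map αc) (Spec.map αc) :=
    isPullback_SpecMap_of_isPushout _ _ _ _ (CommRingCat.isPushout_tensorProduct A B B)
  have hdesc : ∀ {Z : Scheme.{u}} (g₁ g₂ : Z ⟶ Spec (CommRingCat.of B)),
      g₁ ≫ Spec.map αc = g₂ ≫ Spec.map αc → g₁ ≫ σ = g₂ ≫ σ := by
    intro Z g₁ g₂ hg
    rw [← hpb.lift_fst g₁ g₂ hg, Category.assoc]
    change hpb.lift g₁ g₂ hg ≫ Spec.map (CommRingCat.ofHom (dl A B).toRingHom) ≫ σ = _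
    rw [hσ, ← Category.assoc]
    change (hpb.lift g₁ g₂ hg ≫ Spec.map ir) ≫ σ = _
    rw [hpb.lift_snd]
  exact ⟨EffectiveEpi.desc (Spec.map αc) σ hdesc, EffectiveEpi.fac _ _ hdesc⟩

variable {G X : Over S} [GrpObj G] (a : AlgGrp.Action G X)

/-- Core statement: a pseudo-torsor under a group with a multiplicative coordinate, which over
`Spec A ⟶ S` is covered by a faithfully flat `Spec B`, has a section over `Spec A'` for every
`A`-algebra `A'` in which a suitable `f ∉ p` becomes invertible (`p` any given prime of `A`). -/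
theorem exists_section_affine_m (c : CoordM G) (hpt : NonAbH1.IsPseudoTorsorSch a)
    (A B : Type u) [CommRing A] [CommRing B] [Algebra A B] [Module.FaithfullyFlat A B]
    (ιU : Spec (CommRingCat.of A) ⟶ S) (ιV : Spec (CommRingCat.of B) ⟶ X.left)
    (hιV : ιV ≫ X.hom = Spec.map (CommRingCat.ofHom (algebraMap A B)) ≫ ιU)
    (p : Ideal A) [p.IsPrime] :
    ∃ f : A, f ∉ p ∧ ∀ (A' : Type u) [CommRing A'] [Algebra A A'],
      IsUnit (algebraMap A A' f) →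
      ∃ r : Spec (CommRingCat.of A') ⟶ X.left,
        r ≫ X.hom = Spec.map (CommRingCat.ofHom (algebraMap A A')) ≫ ιU := by
  -- rings and ring maps
  let αc : CommRingCat.of A ⟶ CommRingCat.of B := CommRingCat.ofHom (algebraMap A B)
  let il : CommRingCat.of B ⟶ CommRingCat.of (B ⊗[A] B) := CommRingCat.ofHom (dl A B).toRingHom
  let ir : CommRingCat.of B ⟶ CommRingCat.of (B ⊗[A] B) := CommRingCat.ofHom (dr A B).toRingHom
  let e0 : CommRingCat.of (B ⊗[A] B) ⟶ CommRingCat.of ((B ⊗[A] B) ⊗[A] B) :=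
    CommRingCat.ofHom (δ0 A B).toRingHom
  let e1 : CommRingCat.of (B ⊗[A] B) ⟶ CommRingCat.of ((B ⊗[A] B) ⊗[A] B) :=
    CommRingCat.ofHom (δ1 A B).toRingHom
  let e2 : CommRingCat.of (B ⊗[A] B) ⟶ CommRingCat.of ((B ⊗[A] B) ⊗[A] B) :=
    CommRingCat.ofHom (δ2 A B).toRingHom
  have hov : ∀ {R : CommRingCat.{u}} (φ ψ : CommRingCat.of B ⟶ R), αc ≫ φ = αc ≫ ψ →
      Spec.map φ ≫ ιV ≫ X.hom = Spec.map ψ ≫ ιV ≫ X.hom := by
    intro R φ ψ h
    rw [hιV, ← Spec.map_comp_assoc, ← Spec.map_comp_assoc, h]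
  have hα : αc ≫ il = αc ≫ ir := by
    ext x
    change (dl A B) (algebraMap A B x) = (dr A B) (algebraMap A B x)
    rw [AlgHom.commutes, AlgHom.commutes]
  have h20 : il ≫ e2 = il ≫ e1 := by
    ext x
    change (δ2 A B) ((dl A B) x) = (δ1 A B) ((dl A B) x)
    simp [δ1, δ2, dl]
  have h21 : ir ≫ e2 = il ≫ e0 := by
    ext x
    change (δ2 A B) ((dr A B) x) = (δ0 A B) ((dl A B) x)
    simp [δ0, δ2, dl, dr]
  have h22 : ir ≫ e0 = ir ≫ e1 := by
    ext x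
    change (δ0 A B) ((dr A B) x) = (δ1 A B) ((dr A B) x)
    simp [δ0, δ1, dl, dr]
  -- objects over `S`
  let T1 : Over S := Over.mk (ιV ≫ X.hom)
  let p1 : T1 ⟶ X := Over.homMk ιV rfl
  let T2 : Over S := Over.mk (Spec.map il ≫ ιV ≫ X.hom)
  let q1 : T2 ⟶ T1 := Over.homMk (Spec.map il) rfl
  let q2 : T2 ⟶ T1 := Over.homMk (Spec.map ir) (hov ir il hα.symm)
  let T3 : Over S := Over.mk (Spec.map e2 ≫ Spec.map il ≫ ιV ≫ X.hom)
  let r2 : T3 ⟶ T2 := Over.homMk (Spec.map e2) rfl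
  have hA3 : αc ≫ il ≫ e0 = αc ≫ il ≫ e2 := by
    ext x
    change (δ0 A B) ((dl A B) (algebraMap A B x)) = (δ2 A B) ((dl A B) (algebraMap A B x))
    rw [AlgHom.commutes, AlgHom.commutes, AlgHom.commutes]
  have hA3' : αc ≫ il ≫ e1 = αc ≫ il ≫ e2 := by
    ext x
    change (δ1 A B) ((dl A B) (algebraMap A B x)) = (δ2 A B) ((dl A B) (algebraMap A B x))
    rw [AlgHom.commutes, AlgHom.commutes, AlgHom.commutes]
  let r0 : T3 ⟶ T2 := Over.homMk (Spec.map e0) (by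
    change Spec.map e0 ≫ Spec.map il ≫ ιV ≫ X.hom = Spec.map e2 ≫ Spec.map il ≫ ιV ≫ X.hom
    rw [← Spec.map_comp_assoc, ← Spec.map_comp_assoc]
    exact hov _ _ hA3)
  let r1 : T3 ⟶ T2 := Over.homMk (Spec.map e1) (by
    change Spec.map e1 ≫ Spec.map il ≫ ιV ≫ X.hom = Spec.map e2 ≫ Spec.map il ≫ ιV ≫ X.hom
    rw [← Spec.map_comp_assoc, ← Spec.map_comp_assoc]
    exact hov _ _ hA3')
  have hx : r2 ≫ q1 = r1 ≫ q1 := by
    apply Over.OverMorphism.ext
    change Spec.map e2 ≫ Spec.map il = Spec.map e1 ≫ Spec.map il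
    rw [← Spec.map_comp, ← Spec.map_comp, h20]
  have hy : r2 ≫ q2 = r0 ≫ q1 := by
    apply Over.OverMorphism.ext
    change Spec.map e2 ≫ Spec.map ir = Spec.map e0 ≫ Spec.map il
    rw [← Spec.map_comp, ← Spec.map_comp, h21]
  have hz : r0 ≫ q2 = r1 ≫ q2 := by
    apply Over.OverMorphism.ext
    change Spec.map e0 ≫ Spec.map ir = Spec.map e1 ≫ Spec.map ir
    rw [← Spec.map_comp, ← Spec.map_comp, h22]
  -- the cocycle
  let g : T2 ⟶ G := diff a hpt (q1 ≫ p1) (q2 ≫ p1)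
  have hcoc : (r2 ≫ g) * (r0 ≫ g) = r1 ≫ g := by
    simp only [g, comp_diff, ← Category.assoc]
    rw [hy, ← hx, hz, diff_mul]
  let cg : B ⊗[A] B := (Scheme.ΓSpecIso (CommRingCat.of (B ⊗[A] B))).hom (c.fn g)
  have hnat : ∀ {R R' : CommRingCat.{u}} (φ : R ⟶ R') (y : Γ(Spec R, ⊤)),
      (Scheme.ΓSpecIso R').hom ((Spec.map φ).appTop y) = φ ((Scheme.ΓSpecIso R).hom y) :=
    fun φ y => congr($(Scheme.ΓSpecIso_naturality φ) y)
  have hfn : ∀ (e : CommRingCat.of (B ⊗[A] B) ⟶ CommRingCat.of ((B ⊗[A] B) ⊗[A] B))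
      (r : T3 ⟶ T2), r.left = Spec.map e →
      (Scheme.ΓSpecIso (CommRingCat.of ((B ⊗[A] B) ⊗[A] B))).hom (c.fn (r ≫ g)) = e cg := by
    intro e r hr
    rw [c.fn_comp, hr]
    exact hnat e (c.fn g)
  have hcoc' : δ2 A B cg * δ0 A B cg = δ1 A B cg := by
    have h1 := congrArg (Scheme.ΓSpecIso (CommRingCat.of ((B ⊗[A] B) ⊗[A] B))).hom
      (congrArg c.fn hcoc)
    rw [c.fn_mul, map_mul, hfn e2 r2 rfl, hfn e0 r0 rfl, hfn e1 r1 rfl] at h1
    exact h1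
  have hu : IsUnit cg :=
    (c.fn_unit g).map (Scheme.ΓSpecIso (CommRingCat.of (B ⊗[A] B))).hom.hom
  obtain ⟨w, hw⟩ := hu.exists_right_inv
  obtain ⟨f, hfp, x, y, hxy, hxu⟩ := hilbert90 cg w hw hcoc' p
  refine ⟨f, hfp, ?_⟩
  intro A' _ _ hf
  -- primed rings
  let ac : CommRingCat.of A ⟶ CommRingCat.of A' := CommRingCat.ofHom (algebraMap A A')
  let αc' : CommRingCat.of A' ⟶ CommRingCat.of (A' ⊗[A] B) :=
    CommRingCat.ofHom (algebraMap A' (A' ⊗[A] B))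
  let κc : CommRingCat.of B ⟶ CommRingCat.of (A' ⊗[A] B) :=
    CommRingCat.ofHom (κ A B A').toRingHom
  let il' : CommRingCat.of (A' ⊗[A] B) ⟶ CommRingCat.of ((A' ⊗[A] B) ⊗[A'] (A' ⊗[A] B)) :=
    CommRingCat.ofHom (dl A' (A' ⊗[A] B)).toRingHom
  let ir' : CommRingCat.of (A' ⊗[A] B) ⟶ CommRingCat.of ((A' ⊗[A] B) ⊗[A'] (A' ⊗[A] B)) :=
    CommRingCat.ofHom (dr A' (A' ⊗[A] B)).toRingHom
  let θc : CommRingCat.of (B ⊗[A] B) ⟶ CommRingCat.of ((A' ⊗[A] B) ⊗[A'] (A' ⊗[A] B)) :=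
    CommRingCat.ofHom (θ A B A').toRingHom
  have hsq : αc ≫ κc = ac ≫ αc' := by
    ext t
    exact κ_alg A B A' t
  have hα' : αc' ≫ il' = αc' ≫ ir' := by
    ext t
    change (dl A' (A' ⊗[A] B)) (algebraMap A' (A' ⊗[A] B) t) =
      (dr A' (A' ⊗[A] B)) (algebraMap A' (A' ⊗[A] B) t)
    rw [AlgHom.commutes, AlgHom.commutes]
  have hθl : il ≫ θc = κc ≫ il' := by
    ext t
    exact θ_dl A B A' t
  have hθr : ir ≫ θc = κc ≫ ir' := by
    ext t
    exact θ_dr A B A' t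
  have hA' : αc ≫ κc ≫ ir' = αc ≫ κc ≫ il' := by
    rw [← Category.assoc, ← Category.assoc, hsq, Category.assoc, Category.assoc, hα']
  -- primed objects
  let T1' : Over S := Over.mk (Spec.map κc ≫ ιV ≫ X.hom)
  let k1 : T1' ⟶ T1 := Over.homMk (Spec.map κc) rfl
  let T2' : Over S := Over.mk (Spec.map il' ≫ Spec.map κc ≫ ιV ≫ X.hom)
  let q1' : T2' ⟶ T1' := Over.homMk (Spec.map il') rfl
  let q2' : T2' ⟶ T1' := Over.homMk (Spec.map ir') (by
    change Spec.map ir' ≫ Spec.map κc ≫ ιV ≫ X.hom = Spec.map il' ≫ Spec.map κc ≫ ιV ≫ X.hom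
    rw [← Spec.map_comp_assoc, ← Spec.map_comp_assoc]
    exact hov _ _ hA')
  let j2 : T2' ⟶ T2 := Over.homMk (Spec.map θc) (by
    change Spec.map θc ≫ Spec.map il ≫ ιV ≫ X.hom = Spec.map il' ≫ Spec.map κc ≫ ιV ≫ X.hom
    rw [← Spec.map_comp_assoc, ← Spec.map_comp_assoc, hθl])
  have hj1 : q1' ≫ k1 = j2 ≫ q1 := by
    apply Over.OverMorphism.ext
    change Spec.map il' ≫ Spec.map κc = Spec.map θc ≫ Spec.map il
    rw [← Spec.map_comp, ← Spec.map_comp, hθl]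
  have hj2 : q2' ≫ k1 = j2 ≫ q2 := by
    apply Over.OverMorphism.ext
    change Spec.map ir' ≫ Spec.map κc = Spec.map θc ≫ Spec.map ir
    rw [← Spec.map_comp, ← Spec.map_comp, hθr]
  -- the unit
  have hx'u : IsUnit (κ A B A' x) := by
    have h1 : κ A B A' x * κ A B A' y = algebraMap A' (A' ⊗[A] B) (algebraMap A A' f) := by
      rw [← map_mul, hxy]
      exact κ_alg A B A' f
    have h2 : IsUnit (κ A B A' x * κ A B A' y) := by
      rw [h1]
      exact hf.map (algebraMap A' (A' ⊗[A] B))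
    exact isUnit_of_mul_isUnit_left h2
  have hx'Γ : IsUnit ((Scheme.ΓSpecIso (CommRingCat.of (A' ⊗[A] B))).inv (κ A B A' x)) :=
    hx'u.map (Scheme.ΓSpecIso (CommRingCat.of (A' ⊗[A] B))).inv.hom
  obtain ⟨β, hβ⟩ := c.fn_surj (T := T1') _ hx'Γ
  let σ1 : T1' ⟶ X := sm a β (k1 ≫ p1)
  have hβg : (q1' ≫ β) * (j2 ≫ g) = q2' ≫ β := by
    apply c.fn_inj
    rw [c.fn_mul, c.fn_comp q1', c.fn_comp j2, c.fn_comp q2', hβ]
    apply (ConcreteCategory.bijective_of_isIso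
      (Scheme.ΓSpecIso (CommRingCat.of ((A' ⊗[A] B) ⊗[A'] (A' ⊗[A] B)))).hom).1
    rw [map_mul]
    change (Scheme.ΓSpecIso _).hom ((Spec.map il').appTop _) *
        (Scheme.ΓSpecIso _).hom ((Spec.map θc).appTop (c.fn g)) =
      (Scheme.ΓSpecIso _).hom ((Spec.map ir').appTop _)
    rw [hnat il', hnat θc, hnat ir']
    have h3 : (Scheme.ΓSpecIso (CommRingCat.of (A' ⊗[A] B))).hom
        ((Scheme.ΓSpecIso (CommRingCat.of (A' ⊗[A] B))).inv (κ A B A' x)) = κ A B A' x := by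
      rw [← CommRingCat.comp_apply, Iso.inv_hom_id]; rfl
    rw [h3]
    change (dl A' (A' ⊗[A] B)) (κ A B A' x) * (θ A B A') cg = (dr A' (A' ⊗[A] B)) (κ A B A' x)
    rw [← θ_dl, ← θ_dr, ← map_mul, hxu]
  have hσ : q1' ≫ σ1 = q2' ≫ σ1 := by
    simp only [σ1, comp_sm]
    have h4 : q1 ≫ p1 = sm a g (q2 ≫ p1) := (sm_diff a hpt _ _).symm
    have h5 : q1' ≫ k1 ≫ p1 = sm a (j2 ≫ g) (q2' ≫ k1 ≫ p1) := by
      calc q1' ≫ k1 ≫ p1 = j2 ≫ q1 ≫ p1 := by
            rw [← Category.assoc q1' k1 p1, hj1, Category.assoc]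
        _ = j2 ≫ sm a g (q2 ≫ p1) := by rw [h4]
        _ = sm a (j2 ≫ g) (j2 ≫ q2 ≫ p1) := comp_sm a _ _ _
        _ = sm a (j2 ≫ g) (q2' ≫ k1 ≫ p1) := by
            rw [← Category.assoc j2 q2 p1, ← hj2, Category.assoc]
    rw [h5, ← sm_mul, hβg]
  -- descent along the fpqc cover `Spec B' ⟶ Spec A'`
  have hσl : Spec.map il' ≫ σ1.left = Spec.map ir' ≫ σ1.left := congrArg (fun m => m.left) hσ
  obtain ⟨r, hr⟩ := exists_desc A' (A' ⊗[A] B) σ1.left hσl
  refine ⟨r, ?_⟩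
  have hff' : Flat (Spec.map αc') ∧ Surjective (Spec.map αc') :=
    (flat_and_surjective_SpecMap_iff αc').mpr
      (RingHom.faithfullyFlat_algebraMap_iff.mpr inferInstance)
  have := hff'.1
  have := hff'.2
  have hw' : σ1.left ≫ X.hom = Spec.map κc ≫ ιV ≫ X.hom := Over.w σ1
  rw [← cancel_epi (Spec.map αc'), ← Category.assoc]
  change (Spec.map (CommRingCat.ofHom (algebraMap A' (A' ⊗[A] B))) ≫ r) ≫ X.hom = _
  rw [hr, hw', hιV]
  change Spec.map κc ≫ Spec.map αc ≫ ιU = Spec.map αc' ≫ Spec.map ac ≫ ιU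
  rw [← Spec.map_comp_assoc, ← Spec.map_comp_assoc, hsq]

end Groth.Agent.H8.Tors
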