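import Mathlib
import Groth.Agent.Lib.Helper8.Tors.H90

/-!
# Hilbert 90 for `GL_n` and faithfully flat ring maps, Zariski-local form (helper8)
-/

set_option autoImplicit false
universe u
open TensorProduct

namespace Groth.Agent.H8.Tors

section gen
variable {R S : Type*} [CommRing R] [CommRing S] {n : ℕ}

lemma mmap_mul (f : R →+* S) (M N : Matrix (Fin n) (Fin n) R) :
    (M * N).map f = M.map f * N.map f := Matrix.map_mul

lemma mmap_one (f : R →+* S) : (1 : Matrix (Fin n) (Fin n) R).map f = 1 :=
  Matrix.map_one _ (map_zero f) (map_one f)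

lemma mmap_det (f : R →+* S) (M : Matrix (Fin n) (Fin n) R) : (M.map f).det = f M.det :=
  (RingHom.map_det f M).symm

end gen

section
variable {A B : Type u} [CommRing A] [CommRing B] [Algebra A B] {n : ℕ}

/-- `x ↦ (x ⊗ 1) u - 1 ⊗ x` on row vectors -/
noncomputable def φv (u : Matrix (Fin n) (Fin n) (B ⊗[A] B)) :
    (Fin n → B) →ₗ[A] (Fin n → B ⊗[A] B) where
  toFun x := fun k => ∑ j, dl A B (x j) * u j k - dr A B (x k)
  map_add' x y := by
    ext k
    simp only [Pi.add_apply, map_add, add_mul, Finset.sum_add_distrib]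
    ring
  map_smul' a x := by
    ext k
    simp only [Pi.smul_apply, map_smul, RingHom.id_apply, smul_sub, Finset.smul_sum,
      smul_mul_assoc]

lemma φv_apply (u : Matrix (Fin n) (Fin n) (B ⊗[A] B)) (x : Fin n → B) (k : Fin n) :
    φv u x k = ∑ j, dl A B (x j) * u j k - dr A B (x k) := rfl

lemma mem_ker_φv (u : Matrix (Fin n) (Fin n) (B ⊗[A] B)) (x : Fin n → B) :
    x ∈ LinearMap.ker (φv u) ↔ ∀ k, ∑ j, dl A B (x j) * u j k = dr A B (x k) := by
  rw [LinearMap.mem_ker, funext_iff]
  refine forall_congr' fun k => ?_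
  rw [φv_apply, Pi.zero_apply, sub_eq_zero]

/-- `w ↦ e_j ⊗ w` -/
noncomputable def σj (j : Fin n) : B ⊗[A] B →ₗ[A] (Fin n → B) ⊗[A] B :=
  (LinearMap.single A (fun _ : Fin n => B) j).rTensor B

lemma σj_tmul (j : Fin n) (b c : B) :
    σj (A := A) j (b ⊗ₜ[A] c) = (Pi.single j b : Fin n → B) ⊗ₜ[A] c := by
  simp [σj]

lemma key1 (u : Matrix (Fin n) (Fin n) (B ⊗[A] B)) (j k : Fin n) (w : B ⊗[A] B) :
    (LinearMap.proj k : (Fin n → B ⊗[A] B) →ₗ[A] B ⊗[A] B).rTensor B
        ((φv u).rTensor B (σj j w)) =
      δ1 A B w * δ2 A B (u j k) - (if j = k then δ0 A B w else 0) := by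
  induction w using TensorProduct.induction_on with
  | zero => simp
  | tmul b c =>
    rw [σj_tmul, LinearMap.rTensor_tmul, LinearMap.rTensor_tmul, LinearMap.proj_apply, φv_apply]
    have h3 : ∑ j', dl A B ((Pi.single j b : Fin n → B) j') * u j' k = dl A B b * u j k := by
      rw [Finset.sum_eq_single j]
      · rw [Pi.single_eq_same]
      · intro j' _ hne
        rw [Pi.single_eq_of_ne hne, map_zero, zero_mul]
      · intro h
        exact absurd (Finset.mem_univ j) h
    rw [h3, sub_tmul]
    have h4 : δ1 A B (b ⊗ₜ[A] c) * δ2 A B (u j k) = (dl A B b * u j k) ⊗ₜ[A] c := by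
      simp [δ1, δ2]
    rw [h4]
    congr 1
    by_cases hjk : j = k
    · subst hjk
      rw [Pi.single_eq_same, if_pos rfl]
      simp [δ0]
    · rw [Pi.single_eq_of_ne (Ne.symm hjk), map_zero, zero_tmul, if_neg hjk]
  | add x y hx hy =>
    rw [map_add, map_add, map_add, hx, hy, map_add, map_add]
    split_ifs <;> ring

lemma pi_rTensor_ext {M : Type u} [AddCommGroup M] [Module A M] (z : (Fin n → M) ⊗[A] B)
    (h : ∀ k, (LinearMap.proj k : (Fin n → M) →ₗ[A] M).rTensor B z = 0) : z = 0 := by
  have hid : (∑ k, (LinearMap.single A (fun _ : Fin n => M) k) ∘ₗ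
      (LinearMap.proj k : (Fin n → M) →ₗ[A] M)) = LinearMap.id := by
    refine LinearMap.ext fun x => funext fun i => ?_
    simp [LinearMap.sum_apply, Finset.sum_apply, Pi.single_apply]
  have h1 : z = (LinearMap.rTensorHom B (∑ k, (LinearMap.single A (fun _ : Fin n => M) k) ∘ₗ
      (LinearMap.proj k : (Fin n → M) →ₗ[A] M))) z := by
    rw [hid, LinearMap.coe_rTensorHom, LinearMap.rTensor_id]
    rfl
  rw [h1, map_sum, LinearMap.sum_apply]
  apply Finset.sum_eq_zero
  intro k _
  rw [LinearMap.coe_rTensorHom, LinearMap.rTensor_comp, LinearMap.comp_apply, h k, map_zero]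

lemma rows_mem (u v : Matrix (Fin n) (Fin n) (B ⊗[A] B))
    (h : v.map (δ1 A B) * u.map (δ2 A B) = v.map (δ0 A B)) (i : Fin n) :
    (φv u).rTensor B (∑ j, σj j (v i j)) = 0 := by
  apply pi_rTensor_ext
  intro k
  rw [map_sum, map_sum]
  simp only [key1]
  rw [Finset.sum_sub_distrib, Finset.sum_ite_eq' Finset.univ k, if_pos (Finset.mem_univ k),
    sub_eq_zero]
  have := congrFun (congrFun h i) k
  rw [Matrix.mul_apply] at this
  simpa [Matrix.map_apply] using this

/-- `x ⊗ b ↦ x_k b` -/
noncomputable def evk (k : Fin n) : (Fin n → B) ⊗[A] B →ₗ[A] B :=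
  (LinearMap.mul' A B) ∘ₗ ((LinearMap.proj k : (Fin n → B) →ₗ[A] B).rTensor B)

lemma evk_tmul (k : Fin n) (x : Fin n → B) (b : B) : evk (A := A) k (x ⊗ₜ[A] b) = x k * b := by
  simp [evk]

lemma evk_σj (j k : Fin n) (w : B ⊗[A] B) :
    evk k (σj j w) = if j = k then μ A B w else 0 := by
  induction w using TensorProduct.induction_on with
  | zero => simp
  | tmul b c =>
    rw [σj_tmul, evk_tmul, μ_tmul]
    by_cases hjk : j = k
    · subst hjk
      rw [Pi.single_eq_same, if_pos rfl]
    · rw [Pi.single_eq_of_ne (Ne.symm hjk), zero_mul, if_neg hjk]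
  | add x y hx hy =>
    rw [map_add, map_add, hx, hy, map_add]
    split_ifs <;> simp

lemma μ_map_eq_one (u v : Matrix (Fin n) (Fin n) (B ⊗[A] B)) (huv : u * v = 1)
    (hc : u.map (δ2 A B) * u.map (δ0 A B) = u.map (δ1 A B)) : u.map (μ A B) = 1 := by
  have h1 : (u.map (δ2 A B) * u.map (δ0 A B)).map (ν A B) = (u.map (δ1 A B)).map (ν A B) :=
    congrArg (fun M => M.map (ν A B)) hc
  have e0 : (u.map (δ0 A B)).map (ν A B) = u := by
    ext i j; simp [Matrix.map_apply, ν_δ0]
  have e1 : (u.map (δ1 A B)).map (ν A B) = u := by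
    ext i j; simp [Matrix.map_apply, ν_δ1]
  have e2 : (u.map (δ2 A B)).map (ν A B) = (u.map (μ A B)).map (dl A B) := by
    ext i j; simp [Matrix.map_apply, ν_δ2]
  have h1' : (u.map (δ2 A B)).map (ν A B) * (u.map (δ0 A B)).map (ν A B) =
      (u.map (δ1 A B)).map (ν A B) := by
    rw [← h1]
    exact (mmap_mul (ν A B).toRingHom _ _).symm
  rw [e0, e1, e2] at h1'
  have h2 : (u.map (μ A B)).map (dl A B) = 1 := by
    calc (u.map (μ A B)).map (dl A B) = (u.map (μ A B)).map (dl A B) * (u * v) := by
          rw [huv, mul_one]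
      _ = (u.map (μ A B)).map (dl A B) * u * v := by rw [mul_assoc]
      _ = u * v := by rw [h1']
      _ = 1 := huv
  have h3 : ((u.map (μ A B)).map (dl A B)).map (μ A B) =
      (1 : Matrix (Fin n) (Fin n) (B ⊗[A] B)).map (μ A B) :=
    congrArg (fun M => M.map (μ A B)) h2
  have e3 : ((u.map (μ A B)).map (dl A B)).map (μ A B) = u.map (μ A B) := by
    ext i j; simp [Matrix.map_apply, μ_dl]
  rw [e3] at h3
  rw [h3]
  exact mmap_one (μ A B).toRingHom

lemma span_ker_φv [Module.Flat A B] (u v : Matrix (Fin n) (Fin n) (B ⊗[A] B)) (huv : u * v = 1)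
    (hc : u.map (δ2 A B) * u.map (δ0 A B) = u.map (δ1 A B)) :
    Submodule.span B ((LinearMap.ker (φv u) : Submodule A (Fin n → B)) : Set (Fin n → B)) = ⊤ := by
  have hvu : v * u = 1 := mul_eq_one_comm.mp huv
  have h0 : u.map (δ0 A B) * v.map (δ0 A B) = 1 := by
    have := mmap_mul (δ0 A B).toRingHom u v
    rw [huv, mmap_one] at this
    exact this.symm
  have h1 : v.map (δ1 A B) * u.map (δ1 A B) = 1 := by
    have := mmap_mul (δ1 A B).toRingHom v u
    rw [hvu, mmap_one] at this
    exact this.symm
  have hrel : v.map (δ1 A B) * u.map (δ2 A B) = v.map (δ0 A B) := by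
    calc v.map (δ1 A B) * u.map (δ2 A B)
        = v.map (δ1 A B) * u.map (δ2 A B) * (u.map (δ0 A B) * v.map (δ0 A B)) := by
          rw [h0, mul_one]
      _ = v.map (δ1 A B) * (u.map (δ2 A B) * u.map (δ0 A B)) * v.map (δ0 A B) := by
          simp only [mul_assoc]
      _ = v.map (δ0 A B) := by rw [hc, h1, one_mul]
  have hμu : u.map (μ A B) = 1 := μ_map_eq_one u v huv hc
  have hμv : v.map (μ A B) = 1 := by
    have := mmap_mul (μ A B).toRingHom u v
    rw [huv, mmap_one] at this
    change (1 : Matrix (Fin n) (Fin n) B) = u.map (μ A B) * v.map (μ A B) at this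
    rw [hμu, one_mul] at this
    exact this.symm
  have hex := Module.Flat.rTensor_exact B (LinearMap.exact_subtype_ker_map (φv u))
  set N := Submodule.span B ((LinearMap.ker (φv u) : Submodule A (Fin n → B)) : Set (Fin n → B))
    with hN
  have key : ∀ y : (LinearMap.ker (φv u)) ⊗[A] B,
      (fun k => evk k ((LinearMap.ker (φv u)).subtype.rTensor B y)) ∈ N := by
    intro y
    induction y using TensorProduct.induction_on with
    | zero =>
      have : (fun k => evk (A := A) k ((LinearMap.ker (φv u)).subtype.rTensor B 0)) = 0 := by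
        funext k
        simp
      rw [this]
      exact N.zero_mem
    | tmul x b =>
      have : (fun k => evk (A := A) k ((LinearMap.ker (φv u)).subtype.rTensor B (x ⊗ₜ[A] b))) =
          b • (x : Fin n → B) := by
        funext k
        rw [LinearMap.rTensor_tmul, evk_tmul]
        simp [mul_comm]
      rw [this]
      exact N.smul_mem b (Submodule.subset_span x.2)
    | add x y hx hy =>
      have : (fun k => evk (A := A) k ((LinearMap.ker (φv u)).subtype.rTensor B (x + y))) =
          (fun k => evk (A := A) k ((LinearMap.ker (φv u)).subtype.rTensor B x)) +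
          (fun k => evk (A := A) k ((LinearMap.ker (φv u)).subtype.rTensor B y)) := by
        funext k
        simp [map_add]
      rw [this]
      exact N.add_mem hx hy
  have hsingle : ∀ i : Fin n, (Pi.single i (1 : B) : Fin n → B) ∈ N := by
    intro i
    obtain ⟨y, hy⟩ := (hex _).mp (rows_mem u v hrel i)
    have := key y
    rw [hy] at this
    convert this using 1
    funext k
    rw [map_sum]
    simp only [evk_σj]
    rw [Finset.sum_ite_eq' Finset.univ k, if_pos (Finset.mem_univ k)]
    have h5 := congrFun (congrFun hμv i) k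
    rw [Matrix.map_apply] at h5
    rw [h5, Matrix.one_apply, Pi.single_apply]
    simp [eq_comm]
  rw [Submodule.eq_top_iff']
  intro x
  have hx : x = ∑ i, x i • (Pi.single i (1 : B) : Fin n → B) := by
    funext k
    simp [Finset.sum_apply, Pi.single_apply]
  rw [hx]
  exact N.sum_mem fun i _ => N.smul_mem _ (hsingle i)

/-- the ideal generated by the determinants of matrices with rows in a submodule spanning
everything is the unit ideal -/
lemma span_det_eq_top (L : Set (Fin n → B))
    (hL : Submodule.span B L = ⊤) :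
    Ideal.span {d : B | ∃ X : Matrix (Fin n) (Fin n) B, (∀ i, X i ∈ L) ∧ d = X.det} = ⊤ := by
  set J := Ideal.span {d : B | ∃ X : Matrix (Fin n) (Fin n) B, (∀ i, X i ∈ L) ∧ d = X.det}
  have aux : ∀ m : ℕ, m ≤ n → ∀ X : Matrix (Fin n) (Fin n) B,
      (∀ i : Fin n, m ≤ (i : ℕ) → X i ∈ L) → X.det ∈ J := by
    intro m
    induction m with
    | zero =>
      intro _ X hX
      exact Ideal.subset_span ⟨X, fun i => hX i (Nat.zero_le _), rfl⟩
    | succ m ih =>
      intro hm X hX
      let i₀ : Fin n := ⟨m, hm⟩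
      have hr : ∀ r ∈ Submodule.span B L, (X.updateRow i₀ r).det ∈ J := by
        intro r hr
        induction hr using Submodule.span_induction with
        | mem r hrL =>
          apply ih (Nat.le_of_succ_le hm)
          intro i hi
          by_cases hi0 : i = i₀
          · rw [hi0, Matrix.updateRow_self]
            exact hrL
          · rw [Matrix.updateRow_ne hi0]
            apply hX
            have : (i : ℕ) ≠ m := fun h => hi0 (Fin.ext h)
            omega
        | zero =>
          rw [Matrix.det_eq_zero_of_row_eq_zero i₀]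
          · exact J.zero_mem
          · intro j
            rw [Matrix.updateRow_self]
            rfl
        | add x y _ _ hx hy =>
          rw [Matrix.det_updateRow_add]
          exact J.add_mem hx hy
        | smul a x _ hx =>
          rw [Matrix.det_updateRow_smul]
          exact J.mul_mem_left _ hx
      have := hr (X i₀) (by rw [hL]; exact Submodule.mem_top)
      rwa [Matrix.updateRow_eq_self] at this
  rw [Ideal.eq_top_iff_one]
  have := aux n le_rfl 1 (fun i hi => absurd i.2 (not_lt.mpr hi))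
  rwa [Matrix.det_one] at this

/-- Hilbert 90 for `GL_n`, Zariski-local form. -/
theorem hilbert90_gl [Module.FaithfullyFlat A B] (u v : Matrix (Fin n) (Fin n) (B ⊗[A] B))
    (huv : u * v = 1) (hc : u.map (δ2 A B) * u.map (δ0 A B) = u.map (δ1 A B))
    (p : Ideal A) [p.IsPrime] :
    ∃ f : A, f ∉ p ∧ ∃ X Y : Matrix (Fin n) (Fin n) B,
      X * Y = algebraMap A B f • (1 : Matrix (Fin n) (Fin n) B) ∧
      X.map (dl A B) * u = X.map (dr A B) := by
  have hdet : u.det * v.det = 1 := by rw [← Matrix.det_mul, huv, Matrix.det_one]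
  have hdet' : v.det * u.det = 1 := by rw [mul_comm]; exact hdet
  have hcd : δ2 A B u.det * δ0 A B u.det = δ1 A B u.det := by
    have := congrArg Matrix.det hc
    rw [Matrix.det_mul] at this
    have e0 := mmap_det (δ0 A B).toRingHom u
    have e1 := mmap_det (δ1 A B).toRingHom u
    have e2 := mmap_det (δ2 A B).toRingHom u
    change (u.map (δ0 A B)).det = δ0 A B u.det at e0
    change (u.map (δ1 A B)).det = δ1 A B u.det at e1
    change (u.map (δ2 A B)).det = δ2 A B u.det at e2
    rw [e0, e1, e2] at this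
    exact this
  have hcv : δ2 A B v.det * δ0 A B v.det = δ1 A B v.det := by
    have h0 : δ0 A B u.det * δ0 A B v.det = 1 := by rw [← map_mul, hdet, map_one]
    have h1 : δ1 A B u.det * δ1 A B v.det = 1 := by rw [← map_mul, hdet, map_one]
    have h2 : δ2 A B u.det * δ2 A B v.det = 1 := by rw [← map_mul, hdet, map_one]
    calc δ2 A B v.det * δ0 A B v.det
        = δ2 A B v.det * δ0 A B v.det * (δ1 A B u.det * δ1 A B v.det) := by rw [h1, mul_one]
      _ = (δ2 A B u.det * δ2 A B v.det) * (δ0 A B u.det * δ0 A B v.det) * δ1 A B v.det := by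
          rw [← hcd]; ring
      _ = δ1 A B v.det := by rw [h2, h0, one_mul, one_mul]
  have hL' := span_ker_φ v.det u.det hdet' hcv
  have hJ := span_det_eq_top ((LinearMap.ker (φv u) : Submodule A (Fin n → B)) : Set (Fin n → B))
    (span_ker_φv u v huv hc)
  have hrow : ∀ X : Matrix (Fin n) (Fin n) B, (∀ i, X i ∈ LinearMap.ker (φv u)) →
      X.map (dl A B) * u = X.map (dr A B) := by
    intro X hX
    ext i k
    rw [Matrix.mul_apply]
    simp only [Matrix.map_apply]
    exact (mem_ker_φv u (X i)).mp (hX i) k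
  have hdetX : ∀ X : Matrix (Fin n) (Fin n) B, (∀ i, X i ∈ LinearMap.ker (φv u)) →
      dl A B X.det * u.det = dr A B X.det := by
    intro X hX
    have := congrArg Matrix.det (hrow X hX)
    rw [Matrix.det_mul] at this
    have e0 := mmap_det (dl A B).toRingHom X
    have e1 := mmap_det (dr A B).toRingHom X
    change (X.map (dl A B)).det = dl A B X.det at e0
    change (X.map (dr A B)).det = dr A B X.det at e1
    rw [e0, e1] at this
    exact this
  let gen : Set A := {a | ∃ X : Matrix (Fin n) (Fin n) B, (∀ i, X i ∈ LinearMap.ker (φv u)) ∧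
    ∃ y ∈ LinearMap.ker (φ v.det), X.det * y = algebraMap A B a}
  have hprod : ∀ X : Matrix (Fin n) (Fin n) B, (∀ i, X i ∈ LinearMap.ker (φv u)) →
      ∀ y ∈ LinearMap.ker (φ v.det), ∃ a, algebraMap A B a = X.det * y := by
    intro X hX y hy
    apply exists_of_d0_eq_zero
    have hx' := hdetX X hX
    have hy' := (mem_ker_φ v.det y).mp hy
    rw [map_mul, map_mul, ← hx', ← hy']
    calc dl A B X.det * dl A B y = dl A B X.det * dl A B y * (u.det * v.det) := by
          rw [hdet, mul_one]
      _ = dl A B X.det * u.det * (dl A B y * v.det) := by ring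
  have hI : Ideal.span gen = ⊤ := by
    rw [← Ideal.comap_map_eq_self_of_faithfullyFlat (B := B) (Ideal.span gen)]
    have hmap : (Ideal.span gen).map (algebraMap A B) = ⊤ := by
      rw [Ideal.eq_top_iff_one]
      have h1 : (1 : B) ∈ Ideal.span {d : B | ∃ X : Matrix (Fin n) (Fin n) B,
          (∀ i, X i ∈ ((LinearMap.ker (φv u) : Submodule A (Fin n → B)) : Set (Fin n → B))) ∧
            d = X.det} *
          Ideal.span ((LinearMap.ker (φ v.det) : Submodule A B) : Set B) := by
        rw [hJ, hL']; simp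
      rw [Ideal.span_mul_span'] at h1
      refine (Ideal.span_le.mpr ?_) h1
      rintro _ ⟨d, ⟨X, hX, rfl⟩, y, hy, rfl⟩
      obtain ⟨a, ha⟩ := hprod X hX y hy
      show X.det * y ∈ _
      rw [← ha]
      exact Ideal.mem_map_of_mem _ (Ideal.subset_span ⟨X, hX, y, hy, ha.symm⟩)
    rw [hmap, Ideal.comap_top]
  have hex : ∃ a ∈ gen, a ∉ p := by
    by_contra hcon
    push_neg at hcon
    have hle : Ideal.span gen ≤ p := Ideal.span_le.mpr hcon
    rw [hI] at hle
    exact (Ideal.IsPrime.ne_top inferInstance) (top_le_iff.mp hle)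
  obtain ⟨a, ⟨X, hX, y, _, hxy⟩, hap⟩ := hex
  refine ⟨a, hap, X, y • X.adjugate, ?_, hrow X hX⟩
  rw [Matrix.mul_smul, Matrix.mul_adjugate, smul_smul, mul_comm, hxy]

end

end Groth.Agent.H8.Tors
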