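import Mathlib
import Groth.Agent.Lib.Helper8.Tors.H90GL
import Groth.Agent.Lib.Helper8.Tors.CoreM
import Groth.Agent.Lib.Helper8.Tors.PtsC

/-!
# fpqc torsors under a group with a matrix coordinate: local sections (helper8)
-/

set_option autoImplicit false
universe u
open CategoryTheory CategoryTheory.Limits MonoidalCategory CartesianMonoidalCategory MonObj
  AlgebraicGeometry TensorProduct

namespace Groth.Agent.H8.Tors

variable {S : Scheme.{u}}

/-- A matrix coordinate on a group object `G` over `S`: a natural isomorphism of groups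
between `G(T)` and the invertible `n × n` matrices of global functions of `T`. -/
structure CoordGL (n : ℕ) (G : Over S) [GrpObj G] where
  /-- the matrix of a point -/
  fn : ∀ {T : Over S}, (T ⟶ G) → Matrix (Fin n) (Fin n) Γ(T.left, ⊤)
  fn_mul : ∀ {T : Over S} (x y : T ⟶ G), fn (x * y) = fn x * fn y
  fn_unit : ∀ {T : Over S} (x : T ⟶ G), IsUnit (fn x)
  fn_inj : ∀ {T : Over S}, Function.Injective (fn (T := T))
  fn_surj : ∀ {T : Over S} (v : Matrix (Fin n) (Fin n) Γ(T.left, ⊤)), IsUnit v →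
    ∃ x : T ⟶ G, fn x = v
  fn_comp : ∀ {T T' : Over S} (π : T' ⟶ T) (x : T ⟶ G),
    fn (π ≫ x) = (fn x).map π.left.appTop.hom

variable {G X Y : Over S} [GrpObj G] (a : AlgGrp.Action G X) (φ : X ⟶ Y)
  (hc : IsPullback a.act (snd G X) φ φ)

include hc in
/-- Core statement for `GL_n`-like groups and torsors given by a cartesian square. -/
theorem exists_section_affine_gl {n : ℕ} (c : CoordGL n G)
    (A B : Type u) [CommRing A] [CommRing B] [Algebra A B] [Module.FaithfullyFlat A B]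
    (ιU : Spec (CommRingCat.of A) ⟶ Y.left) (ιV : Spec (CommRingCat.of B) ⟶ X.left)
    (hιV : ιV ≫ φ.left = Spec.map (CommRingCat.ofHom (algebraMap A B)) ≫ ιU)
    (p : Ideal A) [p.IsPrime] :
    ∃ f : A, f ∉ p ∧ ∀ (A' : Type u) [CommRing A'] [Algebra A A'],
      IsUnit (algebraMap A A' f) →
      ∃ r : Spec (CommRingCat.of A') ⟶ X.left,
        r ≫ φ.left = Spec.map (CommRingCat.ofHom (algebraMap A A')) ≫ ιU := by
  -- rings and ring maps
  let αc : CommRingCat.of A ⟶ CommRingCat.of B := CommRingCat.ofHom (algebraMap A B)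
  let il : CommRingCat.of B ⟶ CommRingCat.of (B ⊗[A] B) := CommRingCat.ofHom (dl A B).toRingHom
  let ir : CommRingCat.of B ⟶ CommRingCat.of (B ⊗[A] B) := CommRingCat.ofHom (dr A B).toRingHom
  let e0 : CommRingCat.of (B ⊗[A] B) ⟶ CommRingCat.of ((B ⊗[A] B) ⊗[A] B) :=
    CommRingCat.ofHom (δ0 A B).toRingHom
  let e1 : CommRingCat.of (B ⊗[A] B) ⟶ CommRingCat.of ((B ⊗[A] B) ⊗[A] B) :=
    CommRingCat.ofHom (δ1 A B).toRingHom
  let e2 : CommRingCat.of (B ⊗[A] B) ⟶ CommRingCat.of ((B ⊗[A] B) ⊗[A] B) :=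
    CommRingCat.ofHom (δ2 A B).toRingHom
  have hXY : X.hom = φ.left ≫ Y.hom := (Over.w φ).symm
  have hovφ : ∀ {R : CommRingCat.{u}} (φ' ψ' : CommRingCat.of B ⟶ R), αc ≫ φ' = αc ≫ ψ' →
      Spec.map φ' ≫ ιV ≫ φ.left = Spec.map ψ' ≫ ιV ≫ φ.left := by
    intro R φ' ψ' h
    rw [hιV, ← Spec.map_comp_assoc, ← Spec.map_comp_assoc, h]
  have hov : ∀ {R : CommRingCat.{u}} (φ' ψ' : CommRingCat.of B ⟶ R), αc ≫ φ' = αc ≫ ψ' →
      Spec.map φ' ≫ ιV ≫ X.hom = Spec.map ψ' ≫ ιV ≫ X.hom := by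
    intro R φ' ψ' h
    have := hovφ φ' ψ' h
    rw [hXY]
    simp only [← Category.assoc] at this ⊢
    rw [this]
  have hα : αc ≫ il = αc ≫ ir := by
    ext x
    change (dl A B) (algebraMap A B x) = (dr A B) (algebraMap A B x)
    rw [AlgHom.commutes, AlgHom.commutes]
  have h20 : il ≫ e2 = il ≫ e1 := by
    ext x
    change (δ2 A B) ((dl A B) x) = (δ1 A B) ((dl A B) x)
    simp [δ1, δ2, dl]
  have h21 : ir ≫ e2 = il ≫ e0 := by
    ext x
    change (δ2 A B) ((dr A B) x) = (δ0 A B) ((dl A B) x)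
    simp [δ0, δ2, dl, dr]
  have h22 : ir ≫ e0 = ir ≫ e1 := by
    ext x
    change (δ0 A B) ((dr A B) x) = (δ1 A B) ((dr A B) x)
    simp [δ0, δ1, dl, dr]
  -- objects over `S`
  let T1 : Over S := Over.mk (ιV ≫ X.hom)
  let p1 : T1 ⟶ X := Over.homMk ιV rfl
  let T2 : Over S := Over.mk (Spec.map il ≫ ιV ≫ X.hom)
  let q1 : T2 ⟶ T1 := Over.homMk (Spec.map il) rfl
  let q2 : T2 ⟶ T1 := Over.homMk (Spec.map ir) (hov ir il hα.symm)
  let T3 : Over S := Over.mk (Spec.map e2 ≫ Spec.map il ≫ ιV ≫ X.hom)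
  let r2 : T3 ⟶ T2 := Over.homMk (Spec.map e2) rfl
  have hA3 : αc ≫ il ≫ e0 = αc ≫ il ≫ e2 := by
    ext x
    change (δ0 A B) ((dl A B) (algebraMap A B x)) = (δ2 A B) ((dl A B) (algebraMap A B x))
    rw [AlgHom.commutes, AlgHom.commutes, AlgHom.commutes]
  have hA3' : αc ≫ il ≫ e1 = αc ≫ il ≫ e2 := by
    ext x
    change (δ1 A B) ((dl A B) (algebraMap A B x)) = (δ2 A B) ((dl A B) (algebraMap A B x))
    rw [AlgHom.commutes, AlgHom.commutes, AlgHom.commutes]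
  let r0 : T3 ⟶ T2 := Over.homMk (Spec.map e0) (by
    change Spec.map e0 ≫ Spec.map il ≫ ιV ≫ X.hom = Spec.map e2 ≫ Spec.map il ≫ ιV ≫ X.hom
    rw [← Spec.map_comp_assoc, ← Spec.map_comp_assoc]
    exact hov _ _ hA3)
  let r1 : T3 ⟶ T2 := Over.homMk (Spec.map e1) (by
    change Spec.map e1 ≫ Spec.map il ≫ ιV ≫ X.hom = Spec.map e2 ≫ Spec.map il ≫ ιV ≫ X.hom
    rw [← Spec.map_comp_assoc, ← Spec.map_comp_assoc]
    exact hov _ _ hA3')
  have hx : r2 ≫ q1 = r1 ≫ q1 := by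
    apply Over.OverMorphism.ext
    change Spec.map e2 ≫ Spec.map il = Spec.map e1 ≫ Spec.map il
    rw [← Spec.map_comp, ← Spec.map_comp, h20]
  have hy : r2 ≫ q2 = r0 ≫ q1 := by
    apply Over.OverMorphism.ext
    change Spec.map e2 ≫ Spec.map ir = Spec.map e0 ≫ Spec.map il
    rw [← Spec.map_comp, ← Spec.map_comp, h21]
  have hz : r0 ≫ q2 = r1 ≫ q2 := by
    apply Over.OverMorphism.ext
    change Spec.map e0 ≫ Spec.map ir = Spec.map e1 ≫ Spec.map ir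
    rw [← Spec.map_comp, ← Spec.map_comp, h22]
  -- the cocycle
  have hP : (q1 ≫ p1) ≫ φ = (q2 ≫ p1) ≫ φ := by
    apply Over.OverMorphism.ext
    change (Spec.map il ≫ ιV) ≫ φ.left = (Spec.map ir ≫ ιV) ≫ φ.left
    rw [Category.assoc, Category.assoc]
    exact hovφ il ir hα
  let g : T2 ⟶ G := diffC a φ hc (q1 ≫ p1) (q2 ≫ p1)
  have hP2 : ((r2 ≫ q1) ≫ p1) ≫ φ = ((r2 ≫ q2) ≫ p1) ≫ φ := by
    have := congrArg (fun m => r2 ≫ m) hP
    simpa only [Category.assoc] using this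
  have hP0 : ((r0 ≫ q1) ≫ p1) ≫ φ = ((r0 ≫ q2) ≫ p1) ≫ φ := by
    have := congrArg (fun m => r0 ≫ m) hP
    simpa only [Category.assoc] using this
  have e2g : r2 ≫ g = diffC a φ hc ((r1 ≫ q1) ≫ p1) ((r0 ≫ q1) ≫ p1) := by
    rw [comp_diffC a φ hc r2 _ _ hP, ← Category.assoc, ← Category.assoc, hx, hy]
  have e0g : r0 ≫ g = diffC a φ hc ((r0 ≫ q1) ≫ p1) ((r1 ≫ q2) ≫ p1) := by
    rw [comp_diffC a φ hc r0 _ _ hP, ← Category.assoc, ← Category.assoc, hz]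
  have e1g : r1 ≫ g = diffC a φ hc ((r1 ≫ q1) ≫ p1) ((r1 ≫ q2) ≫ p1) := by
    rw [comp_diffC a φ hc r1 _ _ hP, ← Category.assoc, ← Category.assoc]
  have hcoc : (r2 ≫ g) * (r0 ≫ g) = r1 ≫ g := by
    rw [e2g, e0g, e1g]
    apply diffC_mul a φ hc
    · rw [← hx, ← hy]; exact hP2
    · rw [← hz]; exact hP0
  let γ2 : Γ(Spec (CommRingCat.of (B ⊗[A] B)), ⊤) →+* B ⊗[A] B :=
    (Scheme.ΓSpecIso (CommRingCat.of (B ⊗[A] B))).hom.hom
  let γ3 : Γ(Spec (CommRingCat.of ((B ⊗[A] B) ⊗[A] B)), ⊤) →+* (B ⊗[A] B) ⊗[A] B :=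
    (Scheme.ΓSpecIso (CommRingCat.of ((B ⊗[A] B) ⊗[A] B))).hom.hom
  let cg : Matrix (Fin n) (Fin n) (B ⊗[A] B) := (c.fn g).map γ2
  have hnat : ∀ {R R' : CommRingCat.{u}} (ψ : R ⟶ R') (y : Γ(Spec R, ⊤)),
      (Scheme.ΓSpecIso R').hom.hom ((Spec.map ψ).appTop.hom y) =
        ψ.hom ((Scheme.ΓSpecIso R).hom.hom y) :=
    fun ψ y => congr($(Scheme.ΓSpecIso_naturality ψ) y)
  have hfn : ∀ (e : CommRingCat.of (B ⊗[A] B) ⟶ CommRingCat.of ((B ⊗[A] B) ⊗[A] B))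
      (r : T3 ⟶ T2), r.left = Spec.map e → (c.fn (r ≫ g)).map γ3 = cg.map e.hom := by
    intro e r hr
    rw [c.fn_comp, hr]
    ext i j
    simp only [Matrix.map_apply]
    exact hnat e (c.fn g i j)
  have hcoc' : cg.map (δ2 A B) * cg.map (δ0 A B) = cg.map (δ1 A B) := by
    have h1 : (c.fn ((r2 ≫ g) * (r0 ≫ g))).map γ3 = (c.fn (r1 ≫ g)).map γ3 := by rw [hcoc]
    rw [c.fn_mul, mmap_mul γ3, hfn e2 r2 rfl, hfn e0 r0 rfl, hfn e1 r1 rfl] at h1
    exact h1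
  have hu : IsUnit cg := (c.fn_unit g).map γ2.mapMatrix
  obtain ⟨w, hw⟩ := hu.exists_right_inv
  obtain ⟨f, hfp, Xm, Ym, hXYm, hXu⟩ := hilbert90_gl cg w hw hcoc' p
  refine ⟨f, hfp, ?_⟩
  intro A' _ _ hf
  -- primed rings
  let ac : CommRingCat.of A ⟶ CommRingCat.of A' := CommRingCat.ofHom (algebraMap A A')
  let αc' : CommRingCat.of A' ⟶ CommRingCat.of (A' ⊗[A] B) :=
    CommRingCat.ofHom (algebraMap A' (A' ⊗[A] B))
  let κc : CommRingCat.of B ⟶ CommRingCat.of (A' ⊗[A] B) :=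
    CommRingCat.ofHom (κ A B A').toRingHom
  let il' : CommRingCat.of (A' ⊗[A] B) ⟶ CommRingCat.of ((A' ⊗[A] B) ⊗[A'] (A' ⊗[A] B)) :=
    CommRingCat.ofHom (dl A' (A' ⊗[A] B)).toRingHom
  let ir' : CommRingCat.of (A' ⊗[A] B) ⟶ CommRingCat.of ((A' ⊗[A] B) ⊗[A'] (A' ⊗[A] B)) :=
    CommRingCat.ofHom (dr A' (A' ⊗[A] B)).toRingHom
  let θc : CommRingCat.of (B ⊗[A] B) ⟶ CommRingCat.of ((A' ⊗[A] B) ⊗[A'] (A' ⊗[A] B)) :=
    CommRingCat.ofHom (θ A B A').toRingHom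
  have hsq : αc ≫ κc = ac ≫ αc' := by
    ext t
    exact κ_alg A B A' t
  have hα' : αc' ≫ il' = αc' ≫ ir' := by
    ext t
    change (dl A' (A' ⊗[A] B)) (algebraMap A' (A' ⊗[A] B) t) =
      (dr A' (A' ⊗[A] B)) (algebraMap A' (A' ⊗[A] B) t)
    rw [AlgHom.commutes, AlgHom.commutes]
  have hθl : il ≫ θc = κc ≫ il' := by
    ext t
    exact θ_dl A B A' t
  have hθr : ir ≫ θc = κc ≫ ir' := by
    ext t
    exact θ_dr A B A' t
  have hA' : αc ≫ κc ≫ ir' = αc ≫ κc ≫ il' := by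
    rw [← Category.assoc, ← Category.assoc, hsq, Category.assoc, Category.assoc, hα']
  -- primed objects
  let T1' : Over S := Over.mk (Spec.map κc ≫ ιV ≫ X.hom)
  let k1 : T1' ⟶ T1 := Over.homMk (Spec.map κc) rfl
  let T2' : Over S := Over.mk (Spec.map il' ≫ Spec.map κc ≫ ιV ≫ X.hom)
  let q1' : T2' ⟶ T1' := Over.homMk (Spec.map il') rfl
  let q2' : T2' ⟶ T1' := Over.homMk (Spec.map ir') (by
    change Spec.map ir' ≫ Spec.map κc ≫ ιV ≫ X.hom = Spec.map il' ≫ Spec.map κc ≫ ιV ≫ X.hom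
    rw [← Spec.map_comp_assoc, ← Spec.map_comp_assoc]
    exact hov _ _ hA')
  let j2 : T2' ⟶ T2 := Over.homMk (Spec.map θc) (by
    change Spec.map θc ≫ Spec.map il ≫ ιV ≫ X.hom = Spec.map il' ≫ Spec.map κc ≫ ιV ≫ X.hom
    rw [← Spec.map_comp_assoc, ← Spec.map_comp_assoc, hθl])
  have hj1 : q1' ≫ k1 = j2 ≫ q1 := by
    apply Over.OverMorphism.ext
    change Spec.map il' ≫ Spec.map κc = Spec.map θc ≫ Spec.map il
    rw [← Spec.map_comp, ← Spec.map_comp, hθl]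
  have hj2 : q2' ≫ k1 = j2 ≫ q2 := by
    apply Over.OverMorphism.ext
    change Spec.map ir' ≫ Spec.map κc = Spec.map θc ≫ Spec.map ir
    rw [← Spec.map_comp, ← Spec.map_comp, hθr]
  -- the invertible matrix
  let x' : Matrix (Fin n) (Fin n) (A' ⊗[A] B) := Xm.map (κ A B A')
  let y' : Matrix (Fin n) (Fin n) (A' ⊗[A] B) := Ym.map (κ A B A')
  have hx'u : IsUnit x' := by
    have h1 : x' * y' = (algebraMap A B f • (1 : Matrix (Fin n) (Fin n) B)).map (κ A B A') := by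
      rw [← hXYm]
      exact (mmap_mul (κ A B A').toRingHom Xm Ym).symm
    have h2 : (x' * y').det = (algebraMap A' (A' ⊗[A] B) (algebraMap A A' f)) ^ n := by
      rw [h1]
      have h3 := mmap_det (κ A B A').toRingHom (algebraMap A B f • (1 : Matrix (Fin n) (Fin n) B))
      change ((algebraMap A B f • (1 : Matrix (Fin n) (Fin n) B)).map (κ A B A')).det =
        (κ A B A') (algebraMap A B f • (1 : Matrix (Fin n) (Fin n) B)).det at h3
      rw [h3, Matrix.det_smul, Matrix.det_one, _root_.mul_one, Fintype.card_fin, map_pow, κ_alg]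
    have h4 : IsUnit (x'.det * y'.det) := by
      rw [← Matrix.det_mul, h2]
      exact (hf.map (algebraMap A' (A' ⊗[A] B))).pow n
    rw [Matrix.isUnit_iff_isUnit_det]
    exact isUnit_of_mul_isUnit_left h4
  let γi : A' ⊗[A] B →+* Γ(Spec (CommRingCat.of (A' ⊗[A] B)), ⊤) :=
    (Scheme.ΓSpecIso (CommRingCat.of (A' ⊗[A] B))).inv.hom
  let γ1' : Γ(Spec (CommRingCat.of (A' ⊗[A] B)), ⊤) →+* A' ⊗[A] B :=
    (Scheme.ΓSpecIso (CommRingCat.of (A' ⊗[A] B))).hom.hom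
  let γ2' : Γ(Spec (CommRingCat.of ((A' ⊗[A] B) ⊗[A'] (A' ⊗[A] B))), ⊤) →+*
      (A' ⊗[A] B) ⊗[A'] (A' ⊗[A] B) :=
    (Scheme.ΓSpecIso (CommRingCat.of ((A' ⊗[A] B) ⊗[A'] (A' ⊗[A] B)))).hom.hom
  have hx'Γ : IsUnit (x'.map γi) := hx'u.map γi.mapMatrix
  obtain ⟨β, hβ⟩ := c.fn_surj (T := T1') _ hx'Γ
  let σ1 : T1' ⟶ X := sm a β (k1 ≫ p1)
  have hγi : ∀ t : A' ⊗[A] B, γ1' (γi t) = t := by
    intro t
    change ((Scheme.ΓSpecIso (CommRingCat.of (A' ⊗[A] B))).inv ≫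
      (Scheme.ΓSpecIso (CommRingCat.of (A' ⊗[A] B))).hom).hom t = t
    rw [Iso.inv_hom_id]
    rfl
  have hβg : (q1' ≫ β) * (j2 ≫ g) = q2' ≫ β := by
    apply c.fn_inj
    rw [c.fn_mul, c.fn_comp q1', c.fn_comp j2, c.fn_comp q2', hβ]
    have hinj : Function.Injective γ2' :=
      (ConcreteCategory.bijective_of_isIso
        (Scheme.ΓSpecIso (CommRingCat.of ((A' ⊗[A] B) ⊗[A'] (A' ⊗[A] B)))).hom).1
    apply Matrix.map_injective hinj
    show (((x'.map γi).map q1'.left.appTop.hom) * ((c.fn g).map j2.left.appTop.hom)).map γ2' =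
      ((x'.map γi).map q2'.left.appTop.hom).map γ2'
    rw [mmap_mul γ2']
    have hl : ((x'.map γi).map q1'.left.appTop.hom).map γ2' = x'.map (dl A' (A' ⊗[A] B)) := by
      ext i j
      simp only [Matrix.map_apply]
      change γ2' ((Spec.map il').appTop.hom (γi (x' i j))) = _
      rw [hnat il']
      change il'.hom (γ1' (γi (x' i j))) = _
      rw [hγi]
      rfl
    have hr' : ((x'.map γi).map q2'.left.appTop.hom).map γ2' = x'.map (dr A' (A' ⊗[A] B)) := by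
      ext i j
      simp only [Matrix.map_apply]
      change γ2' ((Spec.map ir').appTop.hom (γi (x' i j))) = _
      rw [hnat ir']
      change ir'.hom (γ1' (γi (x' i j))) = _
      rw [hγi]
      rfl
    have hm : ((c.fn g).map j2.left.appTop.hom).map γ2' = cg.map (θ A B A') := by
      ext i j
      simp only [Matrix.map_apply]
      change γ2' ((Spec.map θc).appTop.hom (c.fn g i j)) = _
      rw [hnat θc]
      rfl
    rw [hl, hr', hm]
    have h5 := congrArg (fun M => M.map (θ A B A')) hXu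
    have h6 : (Xm.map (dl A B) * cg).map (θ A B A') = (Xm.map (dr A B)).map (θ A B A') := h5
    have h7 : (Xm.map (dl A B) * cg).map (θ A B A') =
        (Xm.map (dl A B)).map (θ A B A') * cg.map (θ A B A') :=
      mmap_mul (θ A B A').toRingHom _ _
    rw [h7] at h6
    have h8 : (Xm.map (dl A B)).map (θ A B A') = x'.map (dl A' (A' ⊗[A] B)) := by
      ext i j
      simp only [Matrix.map_apply, x']
      exact θ_dl A B A' (Xm i j)
    have h9 : (Xm.map (dr A B)).map (θ A B A') = x'.map (dr A' (A' ⊗[A] B)) := by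
      ext i j
      simp only [Matrix.map_apply, x']
      exact θ_dr A B A' (Xm i j)
    rw [h8, h9] at h6
    exact h6
  have hσ : q1' ≫ σ1 = q2' ≫ σ1 := by
    simp only [σ1, comp_sm]
    have h4 : q1 ≫ p1 = sm a g (q2 ≫ p1) := (sm_diffC a φ hc _ _ hP).symm
    have h5 : q1' ≫ k1 ≫ p1 = sm a (j2 ≫ g) (q2' ≫ k1 ≫ p1) := by
      calc q1' ≫ k1 ≫ p1 = j2 ≫ q1 ≫ p1 := by
            rw [← Category.assoc q1' k1 p1, hj1, Category.assoc]
        _ = j2 ≫ sm a g (q2 ≫ p1) := by rw [h4]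
        _ = sm a (j2 ≫ g) (j2 ≫ q2 ≫ p1) := comp_sm a _ _ _
        _ = sm a (j2 ≫ g) (q2' ≫ k1 ≫ p1) := by
            rw [← Category.assoc j2 q2 p1, ← hj2, Category.assoc]
    rw [h5, ← sm_mul, hβg]
  -- descent along the fpqc cover `Spec B' ⟶ Spec A'`
  have hσl : Spec.map il' ≫ σ1.left = Spec.map ir' ≫ σ1.left := congrArg (fun m => m.left) hσ
  obtain ⟨r, hr⟩ := exists_desc A' (A' ⊗[A] B) σ1.left hσl
  refine ⟨r, ?_⟩
  have hff' : Flat (Spec.map αc') ∧ Surjective (Spec.map αc') :=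
    (flat_and_surjective_SpecMap_iff αc').mpr
      (RingHom.faithfullyFlat_algebraMap_iff.mpr inferInstance)
  have := hff'.1
  have := hff'.2
  have hσφ : σ1.left ≫ φ.left = (Spec.map κc ≫ ιV) ≫ φ.left :=
    congrArg (fun m => m.left) (sm_comp_φ a φ hc β (k1 ≫ p1))
  rw [← cancel_epi (Spec.map αc'), ← Category.assoc]
  change (Spec.map (CommRingCat.ofHom (algebraMap A' (A' ⊗[A] B))) ≫ r) ≫ φ.left = _
  rw [hr, hσφ, Category.assoc, hιV]
  change Spec.map κc ≫ Spec.map αc ≫ ιU = Spec.map αc' ≫ Spec.map ac ≫ ιU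
  rw [← Spec.map_comp_assoc, ← Spec.map_comp_assoc, hsq]

end Groth.Agent.H8.Tors
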