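import Mathlib
import Groth.Agent.Lib.Helper8.Tors.CoreM

/-!
# Hilbert 90 for the groups `G^(λ)` (law `s + t + λ s t`), Zariski-local form (helper8)
-/

set_option autoImplicit false
universe u
open TensorProduct

namespace Groth.Agent.H8.Tors

section
variable {A B : Type u} [CommRing A] [CommRing B] [Algebra A B]

/-- elements of `B` which vanish in `(A/λ) ⊗ B` are multiples of `λ` -/
lemma exists_smul_of_κ_eq_zero (lam : A) (z : B)
    (h : κ A B (A ⧸ Ideal.span {lam}) z = 0) : ∃ b : B, z = lam • b := by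
  have h1 : (1 : A ⧸ Ideal.span {lam}) ⊗ₜ[A] z = 0 := h
  have h2 := congrArg (TensorProduct.quotTensorEquivQuotSMul B (Ideal.span {lam})) h1
  rw [TensorProduct.quotTensorEquivQuotSMul_mk_one_tmul, map_zero, Submodule.Quotient.mk_eq_zero,
    Submodule.ideal_span_singleton_smul, Submodule.mem_smul_pointwise_iff_exists] at h2
  obtain ⟨b, -, hb⟩ := h2
  exact ⟨b, hb.symm⟩

theorem hilbert90_lam [Module.FaithfullyFlat A B] (lam : A) (c w : B ⊗[A] B)
    (hw : (1 + lam • c) * w = 1)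
    (hcoc : δ2 A B c + δ0 A B c + lam • (δ2 A B c * δ0 A B c) = δ1 A B c)
    (p : Ideal A) [p.IsPrime] :
    ∃ f : A, f ∉ p ∧ ∃ (x y b₀ : B) (a s f₀ : A), f = f₀ * a * s ∧
      x * y = algebraMap A B f₀ ∧ dl A B x * (1 + lam • c) = dr A B x ∧
      s • x = algebraMap A B a + lam • b₀ := by
  have hcu : δ2 A B (1 + lam • c) * δ0 A B (1 + lam • c) = δ1 A B (1 + lam • c) := by
    simp only [map_add, map_one, map_smul]
    rw [← hcoc]
    simp only [mul_add, add_mul, one_mul, mul_one, smul_mul_assoc, mul_smul_comm, smul_add]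
    abel
  obtain ⟨f₀, hf₀, x, y, hxy, hxu⟩ := hilbert90 (1 + lam • c) w hw hcu p
  by_cases hlp : lam ∈ p
  · -- reduce mod `λ`
    have h1 : dl (A ⧸ Ideal.span {lam}) ((A ⧸ Ideal.span {lam}) ⊗[A] B)
          (κ A B (A ⧸ Ideal.span {lam}) x) =
        dr (A ⧸ Ideal.span {lam}) ((A ⧸ Ideal.span {lam}) ⊗[A] B)
          (κ A B (A ⧸ Ideal.span {lam}) x) := by
      have h2 := congrArg (θ A B (A ⧸ Ideal.span {lam})) hxu
      rw [map_mul, θ_dl, θ_dr, map_add, map_one, map_smul] at h2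
      have h3 : lam • θ A B (A ⧸ Ideal.span {lam}) c = 0 := by
        rw [← algebraMap_smul (A ⧸ Ideal.span {lam}) lam]
        have : algebraMap A (A ⧸ Ideal.span {lam}) lam = 0 :=
          Ideal.Quotient.eq_zero_iff_mem.mpr (Ideal.mem_span_singleton_self lam)
        rw [this, zero_smul]
      rw [h3, add_zero, mul_one] at h2
      exact h2
    obtain ⟨abar, habar⟩ := exists_of_d0_eq_zero (A ⧸ Ideal.span {lam})
      ((A ⧸ Ideal.span {lam}) ⊗[A] B) (κ A B (A ⧸ Ideal.span {lam}) x) h1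
    obtain ⟨a, rfl⟩ := Ideal.Quotient.mk_surjective abar
    have h4 : κ A B (A ⧸ Ideal.span {lam}) (x - algebraMap A B a) = 0 := by
      rw [map_sub, κ_alg, ← habar, sub_eq_zero]
      rfl
    obtain ⟨b₀, hb₀⟩ := exists_smul_of_κ_eq_zero lam _ h4
    have hx : x = algebraMap A B a + lam • b₀ := by rw [← hb₀]; ring
    have hap : a ∉ p := by
      intro hap
      have hxm : x ∈ p.map (algebraMap A B) := by
        rw [hx]
        refine Ideal.add_mem _ (Ideal.mem_map_of_mem _ hap) ?_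
        rw [Algebra.smul_def]
        exact Ideal.mul_mem_right _ _ (Ideal.mem_map_of_mem _ hlp)
      have hfm : algebraMap A B f₀ ∈ p.map (algebraMap A B) := by
        rw [← hxy]
        exact Ideal.mul_mem_right _ _ hxm
      have : f₀ ∈ (p.map (algebraMap A B)).comap (algebraMap A B) := hfm
      rw [Ideal.comap_map_eq_self_of_faithfullyFlat] at this
      exact hf₀ this
    refine ⟨f₀ * a * 1, ?_, x, y, b₀, a, 1, f₀, rfl, hxy, hxu, ?_⟩
    · rw [mul_one]
      intro h
      rcases (Ideal.IsPrime.mem_or_mem inferInstance h) with h | h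
      · exact hf₀ h
      · exact hap h
    · rw [one_smul]
      exact hx
  · refine ⟨f₀ * lam * lam, ?_, x, y, x - 1, lam, lam, f₀, rfl, hxy, hxu, ?_⟩
    · intro h
      rcases (Ideal.IsPrime.mem_or_mem inferInstance h) with h | h
      · rcases (Ideal.IsPrime.mem_or_mem inferInstance h) with h | h
        · exact hf₀ h
        · exact hlp h
      · exact hlp h
    · rw [Algebra.algebraMap_eq_smul_one, smul_sub]
      abel

end

section
variable {A B : Type u} [CommRing A] [CommRing B] [Algebra A B]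

theorem exists_coboundary_lam [Module.Flat A B] (lam : A) (hreg : IsSMulRegular A lam)
    (c : B ⊗[A] B) (x y b₀ : B) (a s f₀ : A) (hxy : x * y = algebraMap A B f₀)
    (hxu : dl A B x * (1 + lam • c) = dr A B x)
    (hsx : s • x = algebraMap A B a + lam • b₀)
    (A' : Type u) [CommRing A'] [Algebra A A'] [Module.Flat A A']
    (ha : IsUnit (algebraMap A A' a)) (hs : IsUnit (algebraMap A A' s))
    (hf₀ : IsUnit (algebraMap A A' f₀)) :
    ∃ b' : A' ⊗[A] B, IsUnit (1 + lam • b') ∧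
      dl A' (A' ⊗[A] B) b' + θ A B A' c + lam • (dl A' (A' ⊗[A] B) b' * θ A B A' c) =
        dr A' (A' ⊗[A] B) b' := by
  have hκalg : ∀ t : A, κ A B A' (algebraMap A B t) = algebraMap A (A' ⊗[A] B) t :=
    fun t => (κ A B A').commutes t
  have hunit : ∀ t : A, IsUnit (algebraMap A A' t) → IsUnit (algebraMap A (A' ⊗[A] B) t) := by
    intro t ht
    rw [IsScalarTower.algebraMap_apply A A' (A' ⊗[A] B)]
    exact ht.map _
  obtain ⟨ua, hua⟩ := hunit a ha
  have hκx : IsUnit (κ A B A' x) := by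
    refine isUnit_of_mul_isUnit_left (y := κ A B A' y) ?_
    rw [← map_mul, hxy, hκalg]
    exact hunit f₀ hf₀
  have key1 : algebraMap A (A' ⊗[A] B) a * (1 + lam • ((↑ua⁻¹ : A' ⊗[A] B) * κ A B A' b₀)) =
      algebraMap A (A' ⊗[A] B) s * κ A B A' x := by
    have h1 := congrArg (κ A B A') hsx
    rw [map_smul, map_add, map_smul, hκalg, Algebra.smul_def] at h1
    rw [h1, mul_add, mul_one, mul_smul_comm, ← mul_assoc, ← hua, Units.mul_inv, one_mul]
  refine ⟨(↑ua⁻¹ : A' ⊗[A] B) * κ A B A' b₀, ?_, ?_⟩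
  · have h2 : IsUnit (algebraMap A (A' ⊗[A] B) a *
        (1 + lam • ((↑ua⁻¹ : A' ⊗[A] B) * κ A B A' b₀))) := by
      rw [key1]
      exact (hunit s hs).mul hκx
    exact isUnit_of_mul_isUnit_right h2
  · set b' : A' ⊗[A] B := (↑ua⁻¹ : A' ⊗[A] B) * κ A B A' b₀ with hb'
    -- regularity of `λ` on `B' ⊗ B'`
    have : Module.Flat A' (A' ⊗[A] B) := inferInstance
    have : Module.Flat A' ((A' ⊗[A] B) ⊗[A'] (A' ⊗[A] B)) := inferInstance
    have : Module.Flat A ((A' ⊗[A] B) ⊗[A'] (A' ⊗[A] B)) := Module.Flat.trans A A' _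
    have hreg' : IsSMulRegular ((A' ⊗[A] B) ⊗[A'] (A' ⊗[A] B))
        (algebraMap A ((A' ⊗[A] B) ⊗[A'] (A' ⊗[A] B)) lam) := IsSMulRegular.of_flat hreg
    have hal : ∀ t : A, algebraMap A (A' ⊗[A] B) t =
        algebraMap A' (A' ⊗[A] B) (algebraMap A A' t) :=
      fun t => IsScalarTower.algebraMap_apply A A' (A' ⊗[A] B) t
    have hal2 : ∀ t : A, algebraMap A ((A' ⊗[A] B) ⊗[A'] (A' ⊗[A] B)) t =
        algebraMap A' ((A' ⊗[A] B) ⊗[A'] (A' ⊗[A] B)) (algebraMap A A' t) :=
      fun t => IsScalarTower.algebraMap_apply A A' _ t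
    have hDl := congrArg (dl A' (A' ⊗[A] B)) key1
    have hDr := congrArg (dr A' (A' ⊗[A] B)) key1
    rw [map_mul, map_mul, hal, hal, AlgHom.commutes, AlgHom.commutes, ← hal2, ← hal2] at hDl hDr
    have hθ := congrArg (θ A B A') hxu
    rw [map_mul, θ_dl, θ_dr, map_add, map_one, map_smul] at hθ
    have hu2 : IsUnit (algebraMap A ((A' ⊗[A] B) ⊗[A'] (A' ⊗[A] B)) a) := by
      rw [hal2]
      exact ha.map _
    have hD : dl A' (A' ⊗[A] B) (1 + lam • b') * (1 + lam • θ A B A' c) =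
        dr A' (A' ⊗[A] B) (1 + lam • b') := by
      apply hu2.mul_left_cancel
      rw [← mul_assoc, hDl, hDr, mul_assoc, hθ]
    rw [map_add, map_add, map_one, map_one, AlgHom.map_smul_of_tower, AlgHom.map_smul_of_tower] at hD
    have hinj : ∀ z z' : (A' ⊗[A] B) ⊗[A'] (A' ⊗[A] B), lam • z = lam • z' → z = z' := by
      intro z z' h
      apply hreg'
      show algebraMap A ((A' ⊗[A] B) ⊗[A'] (A' ⊗[A] B)) lam • z =
        algebraMap A ((A' ⊗[A] B) ⊗[A'] (A' ⊗[A] B)) lam • z'
      rw [algebraMap_smul, algebraMap_smul]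
      exact h
    apply hinj
    simp only [mul_add, add_mul, one_mul, mul_one, smul_mul_assoc, mul_smul_comm, smul_add] at hD
    simp only [smul_add]
    linear_combination hD

end

end Groth.Agent.H8.Tors
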