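import Mathlib
import Groth.Agent.Lib.Helper8.Tors.H90L

/-!
# fpqc torsors under a group with a `λ`-coordinate (law `s + t + λ s t`): local sections (helper8)
-/

set_option autoImplicit false
universe u
open CategoryTheory CategoryTheory.Limits MonoidalCategory CartesianMonoidalCategory MonObj
  AlgebraicGeometry TensorProduct

namespace Groth.Agent.H8.Tors

variable {S : Scheme.{u}}

/-- A `λ`-coordinate on a group object `G` over `S`: a natural isomorphism of groups between `G(T)`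
and the functions `v` on `T` with `1 + λ v` invertible, with the law `v + w + λ v w`. -/
structure CoordL (G : Over S) [GrpObj G] (ℓ : Γ(S, ⊤)) where
  /-- the coordinate function of a point -/
  fn : ∀ {T : Over S}, (T ⟶ G) → Γ(T.left, ⊤)
  fn_mul : ∀ {T : Over S} (x y : T ⟶ G),
    fn (x * y) = fn x + fn y + T.hom.appTop.hom ℓ * (fn x * fn y)
  fn_unit : ∀ {T : Over S} (x : T ⟶ G), IsUnit (1 + T.hom.appTop.hom ℓ * fn x)
  fn_inj : ∀ {T : Over S}, Function.Injective (fn (T := T))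
  fn_surj : ∀ {T : Over S} (v : Γ(T.left, ⊤)), IsUnit (1 + T.hom.appTop.hom ℓ * v) →
    ∃ x : T ⟶ G, fn x = v
  fn_comp : ∀ {T T' : Over S} (π : T' ⟶ T) (x : T ⟶ G),
    fn (π ≫ x) = π.left.appTop.hom (fn x)

variable {G X : Over S} [GrpObj G] (a : AlgGrp.Action G X)

/-- Core statement: a pseudo-torsor under a group with a `λ`-coordinate, which over
`Spec A ⟶ S` is covered by a faithfully flat `Spec B`, has a section over `Spec A'` for every flat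
`A`-algebra `A'` in which a suitable `f ∉ p` becomes invertible (`p` any given prime of `A`). -/
theorem exists_section_affine_l {ℓ : Γ(S, ⊤)} (c : CoordL G ℓ) (hpt : NonAbH1.IsPseudoTorsorSch a)
    (A B : Type u) [CommRing A] [CommRing B] [Algebra A B] [Module.FaithfullyFlat A B]
    (ιU : Spec (CommRingCat.of A) ⟶ S) (ιV : Spec (CommRingCat.of B) ⟶ X.left)
    (hιV : ιV ≫ X.hom = Spec.map (CommRingCat.ofHom (algebraMap A B)) ≫ ιU)
    (hreg : IsSMulRegular A ((Scheme.ΓSpecIso (CommRingCat.of A)).hom (ιU.appTop ℓ)))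
    (p : Ideal A) [p.IsPrime] :
    ∃ f : A, f ∉ p ∧ ∀ (A' : Type u) [CommRing A'] [Algebra A A'] [Module.Flat A A'],
      IsUnit (algebraMap A A' f) →
      ∃ r : Spec (CommRingCat.of A') ⟶ X.left,
        r ≫ X.hom = Spec.map (CommRingCat.ofHom (algebraMap A A')) ≫ ιU := by
  -- rings and ring maps
  let αc : CommRingCat.of A ⟶ CommRingCat.of B := CommRingCat.ofHom (algebraMap A B)
  let il : CommRingCat.of B ⟶ CommRingCat.of (B ⊗[A] B) := CommRingCat.ofHom (dl A B).toRingHom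
  let ir : CommRingCat.of B ⟶ CommRingCat.of (B ⊗[A] B) := CommRingCat.ofHom (dr A B).toRingHom
  let e0 : CommRingCat.of (B ⊗[A] B) ⟶ CommRingCat.of ((B ⊗[A] B) ⊗[A] B) :=
    CommRingCat.ofHom (δ0 A B).toRingHom
  let e1 : CommRingCat.of (B ⊗[A] B) ⟶ CommRingCat.of ((B ⊗[A] B) ⊗[A] B) :=
    CommRingCat.ofHom (δ1 A B).toRingHom
  let e2 : CommRingCat.of (B ⊗[A] B) ⟶ CommRingCat.of ((B ⊗[A] B) ⊗[A] B) :=
    CommRingCat.ofHom (δ2 A B).toRingHom
  have hov : ∀ {R : CommRingCat.{u}} (φ ψ : CommRingCat.of B ⟶ R), αc ≫ φ = αc ≫ ψ →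
      Spec.map φ ≫ ιV ≫ X.hom = Spec.map ψ ≫ ιV ≫ X.hom := by
    intro R φ ψ h
    rw [hιV, ← Spec.map_comp_assoc, ← Spec.map_comp_assoc, h]
  have hα : αc ≫ il = αc ≫ ir := by
    ext x
    change (dl A B) (algebraMap A B x) = (dr A B) (algebraMap A B x)
    rw [AlgHom.commutes, AlgHom.commutes]
  have h20 : il ≫ e2 = il ≫ e1 := by
    ext x
    change (δ2 A B) ((dl A B) x) = (δ1 A B) ((dl A B) x)
    simp [δ1, δ2, dl]
  have h21 : ir ≫ e2 = il ≫ e0 := by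
    ext x
    change (δ2 A B) ((dr A B) x) = (δ0 A B) ((dl A B) x)
    simp [δ0, δ2, dl, dr]
  have h22 : ir ≫ e0 = ir ≫ e1 := by
    ext x
    change (δ0 A B) ((dr A B) x) = (δ1 A B) ((dr A B) x)
    simp [δ0, δ1, dl, dr]
  -- objects over `S`
  let T1 : Over S := Over.mk (ιV ≫ X.hom)
  let p1 : T1 ⟶ X := Over.homMk ιV rfl
  let T2 : Over S := Over.mk (Spec.map il ≫ ιV ≫ X.hom)
  let q1 : T2 ⟶ T1 := Over.homMk (Spec.map il) rfl
  let q2 : T2 ⟶ T1 := Over.homMk (Spec.map ir) (hov ir il hα.symm)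
  let T3 : Over S := Over.mk (Spec.map e2 ≫ Spec.map il ≫ ιV ≫ X.hom)
  let r2 : T3 ⟶ T2 := Over.homMk (Spec.map e2) rfl
  have hA3 : αc ≫ il ≫ e0 = αc ≫ il ≫ e2 := by
    ext x
    change (δ0 A B) ((dl A B) (algebraMap A B x)) = (δ2 A B) ((dl A B) (algebraMap A B x))
    rw [AlgHom.commutes, AlgHom.commutes, AlgHom.commutes]
  have hA3' : αc ≫ il ≫ e1 = αc ≫ il ≫ e2 := by
    ext x
    change (δ1 A B) ((dl A B) (algebraMap A B x)) = (δ2 A B) ((dl A B) (algebraMap A B x))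
    rw [AlgHom.commutes, AlgHom.commutes, AlgHom.commutes]
  let r0 : T3 ⟶ T2 := Over.homMk (Spec.map e0) (by
    change Spec.map e0 ≫ Spec.map il ≫ ιV ≫ X.hom = Spec.map e2 ≫ Spec.map il ≫ ιV ≫ X.hom
    rw [← Spec.map_comp_assoc, ← Spec.map_comp_assoc]
    exact hov _ _ hA3)
  let r1 : T3 ⟶ T2 := Over.homMk (Spec.map e1) (by
    change Spec.map e1 ≫ Spec.map il ≫ ιV ≫ X.hom = Spec.map e2 ≫ Spec.map il ≫ ιV ≫ X.hom
    rw [← Spec.map_comp_assoc, ← Spec.map_comp_assoc]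
    exact hov _ _ hA3')
  have hx : r2 ≫ q1 = r1 ≫ q1 := by
    apply Over.OverMorphism.ext
    change Spec.map e2 ≫ Spec.map il = Spec.map e1 ≫ Spec.map il
    rw [← Spec.map_comp, ← Spec.map_comp, h20]
  have hy : r2 ≫ q2 = r0 ≫ q1 := by
    apply Over.OverMorphism.ext
    change Spec.map e2 ≫ Spec.map ir = Spec.map e0 ≫ Spec.map il
    rw [← Spec.map_comp, ← Spec.map_comp, h21]
  have hz : r0 ≫ q2 = r1 ≫ q2 := by
    apply Over.OverMorphism.ext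
    change Spec.map e0 ≫ Spec.map ir = Spec.map e1 ≫ Spec.map ir
    rw [← Spec.map_comp, ← Spec.map_comp, h22]
  -- the cocycle
  let g : T2 ⟶ G := diff a hpt (q1 ≫ p1) (q2 ≫ p1)
  have hcoc : (r2 ≫ g) * (r0 ≫ g) = r1 ≫ g := by
    simp only [g, comp_diff, ← Category.assoc]
    rw [hy, ← hx, hz, diff_mul]
  let cg : B ⊗[A] B := (Scheme.ΓSpecIso (CommRingCat.of (B ⊗[A] B))).hom (c.fn g)
  have hnat : ∀ {R R' : CommRingCat.{u}} (φ : R ⟶ R') (y : Γ(Spec R, ⊤)),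
      (Scheme.ΓSpecIso R').hom ((Spec.map φ).appTop y) = φ ((Scheme.ΓSpecIso R).hom y) :=
    fun φ y => congr($(Scheme.ΓSpecIso_naturality φ) y)
  have hfn : ∀ (e : CommRingCat.of (B ⊗[A] B) ⟶ CommRingCat.of ((B ⊗[A] B) ⊗[A] B))
      (r : T3 ⟶ T2), r.left = Spec.map e →
      (Scheme.ΓSpecIso (CommRingCat.of ((B ⊗[A] B) ⊗[A] B))).hom (c.fn (r ≫ g)) = e cg := by
    intro e r hr
    rw [c.fn_comp, hr]
    exact hnat e (c.fn g)
  obtain ⟨lam, hlam⟩ : ∃ lam : A, lam = (Scheme.ΓSpecIso (CommRingCat.of A)).hom (ιU.appTop ℓ) :=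
    ⟨_, rfl⟩
  rw [← hlam] at hreg
  have hΛ : ∀ {C : CommRingCat.{u}} (χ : CommRingCat.of A ⟶ C) (m : Spec C ⟶ S),
      m = Spec.map χ ≫ ιU → (Scheme.ΓSpecIso C).hom (m.appTop.hom ℓ) = χ lam := by
    intro C χ m hm
    subst hm
    rw [hlam, Scheme.Hom.comp_appTop]
    exact hnat χ (ιU.appTop ℓ)
  have hT2 : T2.hom = Spec.map (αc ≫ il) ≫ ιU := by
    change Spec.map il ≫ ιV ≫ X.hom = _
    rw [hιV, Spec.map_comp, Category.assoc]
  have hT3 : T3.hom = Spec.map (αc ≫ il ≫ e2) ≫ ιU := by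
    change Spec.map e2 ≫ Spec.map il ≫ ιV ≫ X.hom = _
    rw [hιV, Spec.map_comp, Spec.map_comp, Category.assoc, Category.assoc]
  have hΛ2 : (Scheme.ΓSpecIso (CommRingCat.of (B ⊗[A] B))).hom (T2.hom.appTop.hom ℓ) =
      algebraMap A (B ⊗[A] B) lam := by
    rw [hΛ (αc ≫ il) T2.hom hT2]
    change (dl A B) (algebraMap A B lam) = _
    rw [AlgHom.commutes]
  have hΛ3 : (Scheme.ΓSpecIso (CommRingCat.of ((B ⊗[A] B) ⊗[A] B))).hom (T3.hom.appTop.hom ℓ) =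
      algebraMap A ((B ⊗[A] B) ⊗[A] B) lam := by
    rw [hΛ (αc ≫ il ≫ e2) T3.hom hT3]
    change (δ2 A B) ((dl A B) (algebraMap A B lam)) = _
    rw [AlgHom.commutes, AlgHom.commutes]
  have hcoc' : δ2 A B cg + δ0 A B cg + lam • (δ2 A B cg * δ0 A B cg) = δ1 A B cg := by
    have h1 := congrArg (Scheme.ΓSpecIso (CommRingCat.of ((B ⊗[A] B) ⊗[A] B))).hom
      (congrArg c.fn hcoc)
    rw [c.fn_mul, map_add, map_add, map_mul, map_mul, hfn e2 r2 rfl, hfn e0 r0 rfl,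
      hfn e1 r1 rfl, hΛ3, ← Algebra.smul_def] at h1
    exact h1
  have hu : IsUnit (1 + lam • cg) := by
    have h1 := (c.fn_unit g).map (Scheme.ΓSpecIso (CommRingCat.of (B ⊗[A] B))).hom.hom
    rw [map_add, map_one, map_mul] at h1
    change IsUnit (1 + (Scheme.ΓSpecIso (CommRingCat.of (B ⊗[A] B))).hom (T2.hom.appTop.hom ℓ) *
      cg) at h1
    rw [hΛ2, ← Algebra.smul_def] at h1
    exact h1
  obtain ⟨w, hw⟩ := hu.exists_right_inv
  obtain ⟨f, hfp, x, y, b₀, a₀, s₀, f₀, hff₀, hxy, hxu, hsx⟩ := hilbert90_lam lam cg w hw hcoc' p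
  refine ⟨f, hfp, ?_⟩
  intro A' _ _ _ hf
  -- primed rings
  let ac : CommRingCat.of A ⟶ CommRingCat.of A' := CommRingCat.ofHom (algebraMap A A')
  let αc' : CommRingCat.of A' ⟶ CommRingCat.of (A' ⊗[A] B) :=
    CommRingCat.ofHom (algebraMap A' (A' ⊗[A] B))
  let κc : CommRingCat.of B ⟶ CommRingCat.of (A' ⊗[A] B) :=
    CommRingCat.ofHom (κ A B A').toRingHom
  let il' : CommRingCat.of (A' ⊗[A] B) ⟶ CommRingCat.of ((A' ⊗[A] B) ⊗[A'] (A' ⊗[A] B)) :=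
    CommRingCat.ofHom (dl A' (A' ⊗[A] B)).toRingHom
  let ir' : CommRingCat.of (A' ⊗[A] B) ⟶ CommRingCat.of ((A' ⊗[A] B) ⊗[A'] (A' ⊗[A] B)) :=
    CommRingCat.ofHom (dr A' (A' ⊗[A] B)).toRingHom
  let θc : CommRingCat.of (B ⊗[A] B) ⟶ CommRingCat.of ((A' ⊗[A] B) ⊗[A'] (A' ⊗[A] B)) :=
    CommRingCat.ofHom (θ A B A').toRingHom
  have hsq : αc ≫ κc = ac ≫ αc' := by
    ext t
    exact κ_alg A B A' t
  have hα' : αc' ≫ il' = αc' ≫ ir' := by
    ext t
    change (dl A' (A' ⊗[A] B)) (algebraMap A' (A' ⊗[A] B) t) =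
      (dr A' (A' ⊗[A] B)) (algebraMap A' (A' ⊗[A] B) t)
    rw [AlgHom.commutes, AlgHom.commutes]
  have hθl : il ≫ θc = κc ≫ il' := by
    ext t
    exact θ_dl A B A' t
  have hθr : ir ≫ θc = κc ≫ ir' := by
    ext t
    exact θ_dr A B A' t
  have hA' : αc ≫ κc ≫ ir' = αc ≫ κc ≫ il' := by
    rw [← Category.assoc, ← Category.assoc, hsq, Category.assoc, Category.assoc, hα']
  -- primed objects
  let T1' : Over S := Over.mk (Spec.map κc ≫ ιV ≫ X.hom)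
  let k1 : T1' ⟶ T1 := Over.homMk (Spec.map κc) rfl
  let T2' : Over S := Over.mk (Spec.map il' ≫ Spec.map κc ≫ ιV ≫ X.hom)
  let q1' : T2' ⟶ T1' := Over.homMk (Spec.map il') rfl
  let q2' : T2' ⟶ T1' := Over.homMk (Spec.map ir') (by
    change Spec.map ir' ≫ Spec.map κc ≫ ιV ≫ X.hom = Spec.map il' ≫ Spec.map κc ≫ ιV ≫ X.hom
    rw [← Spec.map_comp_assoc, ← Spec.map_comp_assoc]
    exact hov _ _ hA')
  let j2 : T2' ⟶ T2 := Over.homMk (Spec.map θc) (by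
    change Spec.map θc ≫ Spec.map il ≫ ιV ≫ X.hom = Spec.map il' ≫ Spec.map κc ≫ ιV ≫ X.hom
    rw [← Spec.map_comp_assoc, ← Spec.map_comp_assoc, hθl])
  have hj1 : q1' ≫ k1 = j2 ≫ q1 := by
    apply Over.OverMorphism.ext
    change Spec.map il' ≫ Spec.map κc = Spec.map θc ≫ Spec.map il
    rw [← Spec.map_comp, ← Spec.map_comp, hθl]
  have hj2 : q2' ≫ k1 = j2 ≫ q2 := by
    apply Over.OverMorphism.ext
    change Spec.map ir' ≫ Spec.map κc = Spec.map θc ≫ Spec.map ir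
    rw [← Spec.map_comp, ← Spec.map_comp, hθr]
  -- the coboundary
  have hfu : IsUnit (algebraMap A A' f₀ * algebraMap A A' a₀ * algebraMap A A' s₀) := by
    rw [← map_mul, ← map_mul, ← hff₀]
    exact hf
  have hs₀ : IsUnit (algebraMap A A' s₀) := isUnit_of_mul_isUnit_right hfu
  have hfa : IsUnit (algebraMap A A' f₀ * algebraMap A A' a₀) := isUnit_of_mul_isUnit_left hfu
  have ha₀ : IsUnit (algebraMap A A' a₀) := isUnit_of_mul_isUnit_right hfa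
  have hf₀ : IsUnit (algebraMap A A' f₀) := isUnit_of_mul_isUnit_left hfa
  obtain ⟨b', hb'u, hb'c⟩ := exists_coboundary_lam lam hreg cg x y b₀ a₀ s₀ f₀ hxy hxu hsx A'
    ha₀ hs₀ hf₀
  have hT1' : T1'.hom = Spec.map (αc ≫ κc) ≫ ιU := by
    change Spec.map κc ≫ ιV ≫ X.hom = _
    rw [hιV, Spec.map_comp, Category.assoc]
  have hT2' : T2'.hom = Spec.map (αc ≫ κc ≫ il') ≫ ιU := by
    change Spec.map il' ≫ Spec.map κc ≫ ιV ≫ X.hom = _
    rw [hιV, Spec.map_comp, Spec.map_comp, Category.assoc, Category.assoc]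
  have hΛ1' : (Scheme.ΓSpecIso (CommRingCat.of (A' ⊗[A] B))).hom (T1'.hom.appTop.hom ℓ) =
      algebraMap A (A' ⊗[A] B) lam := by
    rw [hΛ (αc ≫ κc) T1'.hom hT1']
    change (κ A B A') (algebraMap A B lam) = _
    rw [AlgHom.commutes]
  have hΛ2' : (Scheme.ΓSpecIso (CommRingCat.of ((A' ⊗[A] B) ⊗[A'] (A' ⊗[A] B)))).hom
      (T2'.hom.appTop.hom ℓ) = algebraMap A ((A' ⊗[A] B) ⊗[A'] (A' ⊗[A] B)) lam := by
    rw [hΛ (αc ≫ κc ≫ il') T2'.hom hT2']
    change (dl A' (A' ⊗[A] B)) ((κ A B A') (algebraMap A B lam)) = _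
    rw [AlgHom.commutes, IsScalarTower.algebraMap_apply A A' (A' ⊗[A] B), AlgHom.commutes,
      ← IsScalarTower.algebraMap_apply]
  have hinvhom : ∀ z : A' ⊗[A] B, (Scheme.ΓSpecIso (CommRingCat.of (A' ⊗[A] B))).hom
      ((Scheme.ΓSpecIso (CommRingCat.of (A' ⊗[A] B))).inv z) = z := by
    intro z
    rw [← CommRingCat.comp_apply, Iso.inv_hom_id]; rfl
  obtain ⟨v, hv⟩ : ∃ v : Γ(T1'.left, ⊤),
      v = (Scheme.ΓSpecIso (CommRingCat.of (A' ⊗[A] B))).inv b' := ⟨_, rfl⟩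
  have hb'Γ : IsUnit (1 + T1'.hom.appTop.hom ℓ * v) := by
    have h1 := hb'u.map (Scheme.ΓSpecIso (CommRingCat.of (A' ⊗[A] B))).inv.hom
    have h2 : (1 + T1'.hom.appTop.hom ℓ * v : Γ(T1'.left, ⊤)) =
        (Scheme.ΓSpecIso (CommRingCat.of (A' ⊗[A] B))).inv.hom (1 + lam • b') := by
      apply (ConcreteCategory.bijective_of_isIso
        (Scheme.ΓSpecIso (CommRingCat.of (A' ⊗[A] B))).hom).1
      change (Scheme.ΓSpecIso (CommRingCat.of (A' ⊗[A] B))).hom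
          (1 + T1'.hom.appTop.hom ℓ * v : Γ(T1'.left, ⊤)) =
        (Scheme.ΓSpecIso (CommRingCat.of (A' ⊗[A] B))).hom
          ((Scheme.ΓSpecIso (CommRingCat.of (A' ⊗[A] B))).inv (1 + lam • b'))
      rw [hinvhom, map_add, map_one, map_mul, hΛ1', hv, hinvhom, Algebra.smul_def]
    rw [h2]
    exact h1
  obtain ⟨β, hβ⟩ := c.fn_surj (T := T1') v hb'Γ
  rw [hv] at hβ
  let σ1 : T1' ⟶ X := sm a β (k1 ≫ p1)
  have hβg : (q1' ≫ β) * (j2 ≫ g) = q2' ≫ β := by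
    apply c.fn_inj
    rw [c.fn_mul, c.fn_comp q1', c.fn_comp j2, c.fn_comp q2', hβ]
    apply (ConcreteCategory.bijective_of_isIso
      (Scheme.ΓSpecIso (CommRingCat.of ((A' ⊗[A] B) ⊗[A'] (A' ⊗[A] B)))).hom).1
    rw [map_add, map_add, map_mul, map_mul, hΛ2']
    change (Scheme.ΓSpecIso _).hom ((Spec.map il').appTop _) +
        (Scheme.ΓSpecIso _).hom ((Spec.map θc).appTop (c.fn g)) +
        algebraMap A ((A' ⊗[A] B) ⊗[A'] (A' ⊗[A] B)) lam *
          ((Scheme.ΓSpecIso _).hom ((Spec.map il').appTop _) *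
            (Scheme.ΓSpecIso _).hom ((Spec.map θc).appTop (c.fn g))) =
      (Scheme.ΓSpecIso _).hom ((Spec.map ir').appTop _)
    rw [hnat il', hnat θc, hnat ir', hinvhom, ← Algebra.smul_def]
    exact hb'c
  have hσ : q1' ≫ σ1 = q2' ≫ σ1 := by
    simp only [σ1, comp_sm]
    have h4 : q1 ≫ p1 = sm a g (q2 ≫ p1) := (sm_diff a hpt _ _).symm
    have h5 : q1' ≫ k1 ≫ p1 = sm a (j2 ≫ g) (q2' ≫ k1 ≫ p1) := by
      calc q1' ≫ k1 ≫ p1 = j2 ≫ q1 ≫ p1 := by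
            rw [← Category.assoc q1' k1 p1, hj1, Category.assoc]
        _ = j2 ≫ sm a g (q2 ≫ p1) := by rw [h4]
        _ = sm a (j2 ≫ g) (j2 ≫ q2 ≫ p1) := comp_sm a _ _ _
        _ = sm a (j2 ≫ g) (q2' ≫ k1 ≫ p1) := by
            rw [← Category.assoc j2 q2 p1, ← hj2, Category.assoc]
    rw [h5, ← sm_mul, hβg]
  -- descent along the fpqc cover `Spec B' ⟶ Spec A'`
  have hσl : Spec.map il' ≫ σ1.left = Spec.map ir' ≫ σ1.left := congrArg (fun m => m.left) hσ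
  obtain ⟨r, hr⟩ := exists_desc A' (A' ⊗[A] B) σ1.left hσl
  refine ⟨r, ?_⟩
  have hff' : Flat (Spec.map αc') ∧ Surjective (Spec.map αc') :=
    (flat_and_surjective_SpecMap_iff αc').mpr
      (RingHom.faithfullyFlat_algebraMap_iff.mpr inferInstance)
  have := hff'.1
  have := hff'.2
  have hw' : σ1.left ≫ X.hom = Spec.map κc ≫ ιV ≫ X.hom := Over.w σ1
  rw [← cancel_epi (Spec.map αc'), ← Category.assoc]
  change (Spec.map (CommRingCat.ofHom (algebraMap A' (A' ⊗[A] B))) ≫ r) ≫ X.hom = _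
  rw [hr, hw', hιV]
  change Spec.map κc ≫ Spec.map αc ≫ ιU = Spec.map αc' ≫ Spec.map ac ≫ ιU
  rw [← Spec.map_comp_assoc, ← Spec.map_comp_assoc, hsq]

end Groth.Agent.H8.Tors
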