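import Mathlib
import Groth.Agent.Lib.Helper8.Tors.Pts
import Groth.Agent.Lib.Helper3.LocSec
import Groth.Agent.Lib.Helper3.LocSecComp
import Groth.Agent.Lib.Helper3.CentExt
import Groth.Agent.Lib.Helper3.AntiAff.ActPt

/-!
# Torsors and exact sequences of group schemes: point calculus (helper8)
-/

set_option autoImplicit false
universe u
open CategoryTheory CategoryTheory.Limits MonoidalCategory CartesianMonoidalCategory MonObj
  AlgebraicGeometry

namespace Groth.Agent.H8.Tors

variable {S : Scheme.{u}}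

section pts

variable {G X : Over S} [GrpObj G] (a : AlgGrp.Action G X)

lemma act_eq_sm : a.act = sm a (fst G X) (snd G X) := by
  rw [sm, lift_fst_snd, Category.id_comp]

lemma sm_cancel (hpt : NonAbH1.IsPseudoTorsorSch a) {T : Over S} (g g' : T ⟶ G) (x : T ⟶ X)
    (h : sm a g x = sm a g' x) : g = g' :=
  (diff_unique a hpt _ _ g h).trans (diff_unique a hpt _ _ g' rfl).symm

/-- a pseudo-torsor from a difference map -/
lemma isPseudoTorsorSch_of_diff (D : X ⊗ X ⟶ G) (h1 : sm a D (snd X X) = fst X X)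
    (h2 : ∀ {T : Over S} (g g' : T ⟶ G) (x : T ⟶ X), sm a g x = sm a g' x → g = g') :
    NonAbH1.IsPseudoTorsorSch a := by
  refine ⟨⟨lift D (snd X X), ?_, ?_⟩⟩
  · apply CartesianMonoidalCategory.hom_ext
    · rw [Category.assoc, lift_fst, Category.id_comp]
      apply h2 _ _ (snd G X)
      have e : sm a (lift a.act (snd G X) ≫ D) (snd G X) =
          lift a.act (snd G X) ≫ sm a D (snd X X) := by
        rw [comp_sm, lift_snd]
      rw [e, h1, lift_fst]
      exact act_eq_sm a
    · rw [Category.assoc, lift_snd, lift_snd, Category.id_comp]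
  · apply CartesianMonoidalCategory.hom_ext
    · rw [Category.assoc, lift_fst, Category.id_comp]
      exact h1
    · rw [Category.assoc, lift_snd, lift_snd, Category.id_comp]

end pts

section cover

/-- the product square over the terminal object -/
lemma isPullback_fst_snd_toUnit (A B : Over S) :
    IsPullback (fst A B) (snd A B) (toUnit A) (toUnit B) :=
  IsPullback.mk' (toUnit_unique _ _)
    (fun _ _ _ h1 h2 => CartesianMonoidalCategory.hom_ext _ _ h1 h2)
    (fun _ x y _ => ⟨lift x y, lift_fst _ _, lift_snd _ _⟩)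

lemma uee_toUnit (X : Over S)
    (h : NonAbH1.IsLocallyTrivialFor Scheme.fpqcPrecoverage X) :
    Groth.Agent.H3.UEE (Over S) (toUnit X) :=
  Groth.Agent.H3.LocSec.uee_of_isLocallyTrivialFor_fpqc (toUnit X) h

lemma effectiveEpi_toUnit (X : Over S)
    (h : NonAbH1.IsLocallyTrivialFor Scheme.fpqcPrecoverage X) : EffectiveEpi (toUnit X) :=
  (uee_toUnit X h).effectiveEpi

lemma effectiveEpi_fst (X : Over S)
    (h : NonAbH1.IsLocallyTrivialFor Scheme.fpqcPrecoverage X) (T : Over S) :
    EffectiveEpi (fst T X) :=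
  ((uee_toUnit X h).of_isPullback (isPullback_fst_snd_toUnit T X)).effectiveEpi

lemma isLocallyTrivialFor_of_hom (K : Precoverage Scheme.{u}) {X Y : Over S} (q : X ⟶ Y)
    (h : NonAbH1.IsLocallyTrivialFor K X) : NonAbH1.IsLocallyTrivialFor K Y := by
  obtain ⟨R, hR, hs⟩ := h
  refine ⟨R, hR, fun S' f hf => ?_⟩
  obtain ⟨s, hs'⟩ := hs f hf
  exact ⟨s ≫ q.left, by rw [Category.assoc, Over.w q, hs']⟩

lemma isLocallyTrivialFor_pullback_fst (K : Precoverage Scheme.{u}) [K.IsStableUnderBaseChange]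
    {A B C : Scheme.{u}} (k : A ⟶ C) (v : B ⟶ C)
    (h : NonAbH1.IsLocallyTrivialFor K (Over.mk v : Over C)) :
    NonAbH1.IsLocallyTrivialFor K (Over.mk (pullback.fst k v) : Over A) := by
  obtain ⟨R, hR, hs⟩ := h
  refine ⟨R.pullbackArrows k, Precoverage.pullbackArrows_mem k hR, ?_⟩
  rintro T g ⟨Z, r, hr⟩
  obtain ⟨s, hs'⟩ := hs r hr
  have hs'' : s ≫ v = r := hs'
  refine ⟨pullback.lift (pullback.snd r k) (pullback.fst r k ≫ s) ?_, ?_⟩
  · rw [Category.assoc, hs'', pullback.condition]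
  · exact pullback.lift_fst _ _ _

end cover

section exact

variable {G G' G'' : Over S} [GrpObj G] [GrpObj G'] [GrpObj G''] (u : G' ⟶ G) (v : G ⟶ G'')
  [IsMonHom u] [IsMonHom v]

lemma mono_u (hkp : IsPullback (fst G G') ((G ◁ u) ≫ μ[G]) v v) : Mono u :=
  Groth.Agent.H3.CentExt.mono_u u v hkp

lemma exists_of_comp_v_eq_one (hkp : IsPullback (fst G G') ((G ◁ u) ≫ μ[G]) v v)
    {T : Over S} (x : T ⟶ G) (hx : x ≫ v = 1) : ∃ d : T ⟶ G', x = d ≫ u :=
  Groth.Agent.H3.CentExt.exists_of_comp_v_eq_one u v hkp x hx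

lemma comp_u_comp_v (huv : u ≫ v = 1) {T : Over S} (d : T ⟶ G') : (d ≫ u) ≫ v = 1 :=
  Groth.Agent.H3.CentExt.comp_u_comp_v u v huv d

end exact

end Groth.Agent.H8.Tors
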