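import Mathlib
import Groth.Agent.Lib.Helper8.Tors.Exact

/-!
# Exactness of the cohomology sequence at `H¹(S, G)` (helper8)
-/

set_option autoImplicit false
universe u
open CategoryTheory CategoryTheory.Limits MonoidalCategory CartesianMonoidalCategory MonObj
  AlgebraicGeometry

namespace Groth.Agent.H8.Tors

theorem push_trivial_iff_exists_reduction {S : Scheme.{u}}
    {G G' G'' : Over S} [GrpObj G] [GrpObj G'] [GrpObj G'']
    (u : G' ⟶ G) (v : G ⟶ G'') (hex : NonAbH1.IsExactSeq Scheme.fpqcPrecoverage u v)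
    (P : NonAbH1.TorsorSch G Scheme.fpqcPrecoverage) :
    NonAbH1.IsPushforwardAlongSch v P.act (NonAbH1.trivialAction G'') ↔
      ∃ Q : NonAbH1.TorsorSch G' Scheme.fpqcPrecoverage,
        NonAbH1.IsPushforwardAlongSch u Q.act P.act := by
  obtain ⟨hmu, hmv, huv, hkp, hloc⟩ := hex
  haveI := hmu
  haveI := hmv
  have hPpt : NonAbH1.IsPseudoTorsorSch P.act := P.isTorsor.1
  haveI := mono_u u v hkp
  constructor
  · rintro ⟨k, hk⟩
    have hk' : ∀ {T : Over S} (h : T ⟶ G) (p : T ⟶ P.X),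
        sm P.act h p ≫ k = (h ≫ v) * (p ≫ k) := by
      intro T h p
      rw [sm, Category.assoc, hk]
      change lift h p ≫ lift (fst G P.X ≫ v) (snd G P.X ≫ k) ≫ μ[G''] = _
      rw [← Category.assoc, comp_lift, ← Category.assoc, lift_fst, ← Category.assoc, lift_snd,
        Hom.mul_def]
    have hιk : pullback.fst k η[G''] ≫ k = 1 := by
      rw [pullback.condition, Hom.one_def]
      congr 1
      exact toUnit_unique _ _
    have hιext : ∀ {T : Over S} (x y : T ⟶ pullback k η[G'']),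
        x ≫ pullback.fst k η[G''] = y ≫ pullback.fst k η[G''] → x = y :=
      fun x y h => pullback.hom_ext h (toUnit_unique _ _)
    have hιlift : ∀ {T : Over S} (p : T ⟶ P.X), p ≫ k = 1 →
        ∃ q : T ⟶ pullback k η[G''], q ≫ pullback.fst k η[G''] = p := by
      intro T p hp
      refine ⟨pullback.lift p (toUnit T) ?_, pullback.lift_fst _ _ _⟩
      rw [hp, Hom.one_def]
    have hqk : ∀ {T : Over S} (q : T ⟶ pullback k η[G'']),
        (q ≫ pullback.fst k η[G'']) ≫ k = 1 := by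
      intro T q
      rw [Category.assoc, hιk, MonObj.comp_one]
    obtain ⟨actQ, hactQ⟩ : ∃ actQ : G' ⊗ pullback k η[G''] ⟶ pullback k η[G''],
        actQ ≫ pullback.fst k η[G''] = sm P.act
          (fst G' (pullback k η[G'']) ≫ u)
          (snd G' (pullback k η[G'']) ≫ pullback.fst k η[G'']) := by
      apply hιlift
      rw [hk', comp_u_comp_v u v huv, hqk, _root_.mul_one]
    have hact_pt : ∀ {T : Over S} (d : T ⟶ G') (q : T ⟶ pullback k η[G'']),
        (lift d q ≫ actQ) ≫ pullback.fst k η[G''] =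
          sm P.act (d ≫ u) (q ≫ pullback.fst k η[G'']) := by
      intro T d q
      rw [Category.assoc, hactQ, comp_sm, ← Category.assoc, lift_fst,
        ← Category.assoc, lift_snd]
    let aQ : AlgGrp.Action G' (pullback k η[G'']) := Groth.Agent.H3.ActPt.mkOfPt actQ
      (by
        intro T z
        apply hιext
        rw [hact_pt, Category.assoc, IsMonHom.one_hom, ← Hom.one_def,
          sm_one])
      (by
        intro T g h z
        apply hιext
        rw [hact_pt, hact_pt, hact_pt, MonObj.mul_comp, sm_mul])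
    have hsmQ : ∀ {T : Over S} (d : T ⟶ G') (q : T ⟶ pullback k η[G'']),
        sm aQ d q ≫ pullback.fst k η[G''] =
          sm P.act (d ≫ u) (q ≫ pullback.fst k η[G'']) :=
      fun d q => hact_pt d q
    obtain ⟨D, hD⟩ := exists_of_comp_v_eq_one u v hkp
      (diff P.act hPpt
        (fst (pullback k η[G'']) (pullback k η[G'']) ≫ pullback.fst k η[G''])
        (snd (pullback k η[G'']) (pullback k η[G'']) ≫ pullback.fst k η[G''])) (by
      have h1 := hk' (diff P.act hPpt
        (fst (pullback k η[G'']) (pullback k η[G'']) ≫ pullback.fst k η[G''])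
        (snd (pullback k η[G'']) (pullback k η[G'']) ≫ pullback.fst k η[G'']))
        (snd (pullback k η[G'']) (pullback k η[G'']) ≫ pullback.fst k η[G''])
      rw [sm_diff, hqk, hqk, _root_.mul_one] at h1
      exact h1.symm)
    have hQpt : NonAbH1.IsPseudoTorsorSch aQ := by
      apply isPseudoTorsorSch_of_diff aQ D
      · apply hιext
        rw [hsmQ, ← hD, sm_diff]
      · intro T g g' x h
        have h1 := congrArg (fun t => t ≫ pullback.fst k η[G'']) h
        simp only [hsmQ] at h1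
        have h2 := sm_cancel P.act hPpt _ _ _ h1
        exact (cancel_mono u).mp h2
    have hQloc : NonAbH1.IsLocallyTrivialFor Scheme.fpqcPrecoverage (pullback k η[G'']) := by
      have hY1 : NonAbH1.IsLocallyTrivialFor Scheme.fpqcPrecoverage
          (Over.mk (pullback.fst k.left v.left) : Over P.X.left) :=
        isLocallyTrivialFor_pullback_fst _ k.left v.left hloc
      have hY2 : NonAbH1.IsLocallyTrivialFor Scheme.fpqcPrecoverage
          (Over.mk (pullback.fst k.left v.left ≫ P.X.hom) : Over S) :=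
        Groth.Agent.H3.LocSec.isLocallyTrivialFor_comp _ _ _ hY1 P.isTorsor.2
      let Y : Over S := Over.mk (pullback.fst k.left v.left ≫ P.X.hom)
      let pY : Y ⟶ P.X := Over.homMk (pullback.fst k.left v.left) rfl
      let gY : Y ⟶ G := Over.homMk (pullback.snd k.left v.left) (by
        change pullback.snd k.left v.left ≫ G.hom = pullback.fst k.left v.left ≫ P.X.hom
        rw [← Over.w v, ← Over.w k, ← Category.assoc, ← Category.assoc, pullback.condition])
      have hYc : pY ≫ k = gY ≫ v := by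
        apply Over.OverMorphism.ext
        exact pullback.condition
      obtain ⟨q, -⟩ := hιlift (sm P.act gY⁻¹ pY) (by
        rw [hk', GrpObj.inv_comp, hYc, inv_mul_cancel])
      exact isLocallyTrivialFor_of_hom _ q hY2
    exact ⟨⟨pullback k η[G''], aQ, ⟨hQpt, hQloc⟩⟩, pullback.fst k η[G''], hactQ⟩
  · rintro ⟨Q, φ, hφ⟩
    have hQpt : NonAbH1.IsPseudoTorsorSch Q.act := Q.isTorsor.1
    have hφ' : ∀ {T : Over S} (d : T ⟶ G') (q : T ⟶ Q.X),
        sm Q.act d q ≫ φ = sm P.act (d ≫ u) (q ≫ φ) := by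
      intro T d q
      rw [sm, Category.assoc, hφ, sm, ← Category.assoc,
        comp_lift, ← Category.assoc, lift_fst, ← Category.assoc, lift_snd]
    haveI : EffectiveEpi (fst P.X Q.X) :=
      effectiveEpi_fst Q.X Q.isTorsor.2 P.X
    have hk'pt : ∀ {T : Over S} (p : T ⟶ P.X) (q : T ⟶ Q.X),
        lift p q ≫ diff P.act hPpt (fst P.X Q.X) (snd P.X Q.X ≫ φ) ≫ v =
          diff P.act hPpt p (q ≫ φ) ≫ v := by
      intro T p q
      rw [← Category.assoc, comp_diff, lift_fst, ← Category.assoc, lift_snd]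
    have hindep : ∀ {T : Over S} (p : T ⟶ P.X) (q₁ q₂ : T ⟶ Q.X),
        diff P.act hPpt p (q₁ ≫ φ) ≫ v =
          diff P.act hPpt p (q₂ ≫ φ) ≫ v := by
      intro T p q₁ q₂
      have h1 : q₁ ≫ φ = sm P.act
          (diff Q.act hQpt q₁ q₂ ≫ u) (q₂ ≫ φ) := by
        rw [← hφ', sm_diff]
      have h2 : diff P.act hPpt p (q₂ ≫ φ) =
          diff P.act hPpt p (q₁ ≫ φ) *
            (diff Q.act hQpt q₁ q₂ ≫ u) := by
        symm
        apply diff_unique
        rw [sm_mul, ← h1, sm_diff]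
      rw [h2, MonObj.mul_comp, comp_u_comp_v u v huv, _root_.mul_one]
    have hdesc : ∀ {Z : Over S} (g₁ g₂ : Z ⟶ P.X ⊗ Q.X),
        g₁ ≫ fst P.X Q.X = g₂ ≫ fst P.X Q.X →
        g₁ ≫ diff P.act hPpt (fst P.X Q.X) (snd P.X Q.X ≫ φ) ≫ v =
          g₂ ≫ diff P.act hPpt (fst P.X Q.X) (snd P.X Q.X ≫ φ) ≫ v := by
      intro Z g₁ g₂ hg
      calc g₁ ≫ diff P.act hPpt (fst P.X Q.X) (snd P.X Q.X ≫ φ) ≫ v
          = lift (g₁ ≫ fst P.X Q.X) (g₁ ≫ snd P.X Q.X) ≫
              diff P.act hPpt (fst P.X Q.X) (snd P.X Q.X ≫ φ) ≫ v := by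
            rw [← comp_lift, lift_fst_snd, Category.comp_id]
        _ = diff P.act hPpt (g₁ ≫ fst P.X Q.X)
              ((g₁ ≫ snd P.X Q.X) ≫ φ) ≫ v := hk'pt _ _
        _ = diff P.act hPpt (g₁ ≫ fst P.X Q.X)
              ((g₂ ≫ snd P.X Q.X) ≫ φ) ≫ v := hindep _ _ _
        _ = lift (g₁ ≫ fst P.X Q.X) (g₂ ≫ snd P.X Q.X) ≫
              diff P.act hPpt (fst P.X Q.X) (snd P.X Q.X ≫ φ) ≫ v :=
            (hk'pt _ _).symm
        _ = g₂ ≫ diff P.act hPpt (fst P.X Q.X) (snd P.X Q.X ≫ φ) ≫ v := by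
            rw [hg, ← comp_lift, lift_fst_snd, Category.comp_id]
    obtain ⟨k, hkfac⟩ : ∃ k : P.X ⟶ G'', fst P.X Q.X ≫ k =
        diff P.act hPpt (fst P.X Q.X) (snd P.X Q.X ≫ φ) ≫ v :=
      ⟨EffectiveEpi.desc _ _ hdesc, EffectiveEpi.fac _ _ hdesc⟩
    have hkpt : ∀ {T : Over S} (p : T ⟶ P.X) (q : T ⟶ Q.X),
        p ≫ k = diff P.act hPpt p (q ≫ φ) ≫ v := by
      intro T p q
      rw [← hk'pt p q, ← hkfac, ← Category.assoc, lift_fst]
    refine ⟨k, ?_⟩
    change P.act.act ≫ k = lift (fst G P.X ≫ v) (snd G P.X ≫ k) ≫ μ[G'']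
    rw [← Hom.mul_def]
    haveI : EffectiveEpi (fst (G ⊗ P.X) Q.X) :=
      effectiveEpi_fst Q.X Q.isTorsor.2 (G ⊗ P.X)
    rw [← cancel_epi (fst (G ⊗ P.X) Q.X)]
    have e1 : fst (G ⊗ P.X) Q.X ≫ P.act.act = sm P.act
        (fst (G ⊗ P.X) Q.X ≫ fst G P.X) (fst (G ⊗ P.X) Q.X ≫ snd G P.X) := by
      rw [sm, ← comp_lift, lift_fst_snd, Category.comp_id]
    have e2 : diff P.act hPpt (sm P.act
        (fst (G ⊗ P.X) Q.X ≫ fst G P.X) (fst (G ⊗ P.X) Q.X ≫ snd G P.X))
        (snd (G ⊗ P.X) Q.X ≫ φ) = (fst (G ⊗ P.X) Q.X ≫ fst G P.X) *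
          diff P.act hPpt (fst (G ⊗ P.X) Q.X ≫ snd G P.X)
            (snd (G ⊗ P.X) Q.X ≫ φ) := by
      symm
      apply diff_unique
      rw [sm_mul, sm_diff]
    rw [← Category.assoc, e1, hkpt _ (snd (G ⊗ P.X) Q.X), e2, MonObj.mul_comp,
      ← hkpt (fst (G ⊗ P.X) Q.X ≫ snd G P.X) (snd (G ⊗ P.X) Q.X), MonObj.comp_mul]
    simp only [Category.assoc]


end Groth.Agent.H8.Tors
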