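import Mathlib
import Groth.Agent.Lib.Helper8.Tors.CoreL
import Groth.Agent.Lib.Helper3.TorsAff
import Groth.Agent.Lib.Helper3.TorsorProp

/-!
# fpqc torsors under a group with a `λ`-coordinate are Zariski locally trivial (helper8)
-/

set_option autoImplicit false
universe u
open CategoryTheory CategoryTheory.Limits MonoidalCategory CartesianMonoidalCategory MonObj
  AlgebraicGeometry TensorProduct

namespace Groth.Agent.H8.Tors

variable {S : Scheme.{u}} {G X : Over S} [GrpObj G] (a : AlgGrp.Action G X)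

theorem exists_section_nbhd_l {ℓ : Γ(S, ⊤)} (c : CoordL G ℓ) (hpt : NonAbH1.IsPseudoTorsorSch a)
    [IsAffineHom X.hom] [Flat X.hom] [Surjective X.hom]
    (hℓ : ∀ (U : S.Opens) (hU : IsAffineOpen U),
      IsSMulRegular Γ(S, U) ((Scheme.ΓSpecIso Γ(S, U)).hom (hU.fromSpec.appTop ℓ)))
    (s : S) :
    ∃ (U : S.Opens) (σ : U.toScheme ⟶ X.left), s ∈ U ∧ σ ≫ X.hom = U.ι := by
  obtain ⟨_, ⟨U, hU, rfl⟩, hsU, -⟩ := S.isBasis_affineOpens.exists_subset_of_mem_open
    (Set.mem_univ s) isOpen_univ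
  have hV : IsAffineOpen (X.hom ⁻¹ᵁ U) := hU.preimage X.hom
  have hsq : Spec.map (X.hom.app U) ≫ hU.fromSpec = hV.fromSpec ≫ X.hom := by
    rw [Scheme.Hom.app_eq_appLE]
    exact IsAffineOpen.SpecMap_appLE_fromSpec X.hom hU hV le_rfl
  have hflat : (X.hom.app U).hom.Flat := by
    rw [Scheme.Hom.app_eq_appLE]
    exact HasRingHomProperty.appLE (P := @Flat) X.hom inferInstance ⟨U, hU⟩ ⟨_, hV⟩ le_rfl
  have hsurj : Surjective (Spec.map (X.hom.app U)) := by
    constructor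
    intro y
    obtain ⟨x, hx⟩ := X.hom.surjective (hU.fromSpec y)
    have hyU : hU.fromSpec y ∈ (U : Set S) := by
      rw [← hU.range_fromSpec]; exact Set.mem_range_self y
    have hxV : x ∈ Set.range hV.fromSpec := by
      rw [hV.range_fromSpec]
      show X.hom x ∈ U
      rw [hx]; exact hyU
    obtain ⟨x', rfl⟩ := hxV
    refine ⟨x', ?_⟩
    apply hU.fromSpec.isOpenEmbedding.injective
    rw [← Scheme.Hom.comp_apply, hsq, Scheme.Hom.comp_apply, hx]
  letI : Algebra Γ(S, U) Γ(X.left, X.hom ⁻¹ᵁ U) := (X.hom.app U).hom.toAlgebra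
  have hff : Module.FaithfullyFlat Γ(S, U) Γ(X.left, X.hom ⁻¹ᵁ U) :=
    (flat_and_surjective_SpecMap_iff (X.hom.app U)).mp
      ⟨(HasRingHomProperty.Spec_iff (P := @Flat)).mpr hflat, hsurj⟩
  -- the prime of `s`
  let p : Ideal Γ(S, U) :=
    (IsLocalRing.maximalIdeal (S.presheaf.stalk s)).comap (S.presheaf.germ U s hsU).hom
  haveI : p.IsPrime := Ideal.comap_isPrime _ _
  obtain ⟨f, hfp, H⟩ := exists_section_affine_l a c hpt Γ(S, U) Γ(X.left, X.hom ⁻¹ᵁ U)
    hU.fromSpec hV.fromSpec hsq.symm (hℓ U hU) p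
  have hsf : s ∈ S.basicOpen f := by
    rw [Scheme.mem_basicOpen S f s hsU]
    by_contra hnu
    apply hfp
    show (S.presheaf.germ U s hsU).hom f ∈ IsLocalRing.maximalIdeal _
    rw [IsLocalRing.mem_maximalIdeal, mem_nonunits_iff]
    exact hnu
  have hU' : IsAffineOpen (S.basicOpen f) := hU.basicOpen f
  letI : Algebra Γ(S, U) Γ(S, S.basicOpen f) :=
    (S.presheaf.map (homOfLE (S.basicOpen_le f)).op).hom.toAlgebra
  have hfu : IsUnit (algebraMap Γ(S, U) Γ(S, S.basicOpen f) f) :=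
    S.toRingedSpace.isUnit_res_basicOpen f
  haveI : Module.Flat Γ(S, U) Γ(S, S.basicOpen f) := by
    have := hU.isLocalization_basicOpen f
    exact IsLocalization.flat Γ(S, S.basicOpen f) (Submonoid.powers f)
  obtain ⟨r, hr⟩ := H Γ(S, S.basicOpen f) hfu
  refine ⟨S.basicOpen f, hU'.isoSpec.hom ≫ r, hsf, ?_⟩
  rw [Category.assoc, hr]
  change hU'.isoSpec.hom ≫ Spec.map (S.presheaf.map (homOfLE (S.basicOpen_le f)).op) ≫
    hU.fromSpec = _
  rw [hU.map_fromSpec hU', hU'.isoSpec_hom_fromSpec]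

/-- An fpqc torsor under an affine flat group scheme with a `λ`-coordinate (`λ` a regular function)
is Zariski locally trivial. -/
theorem isTorsorFor_zariski_of_coordL {ℓ : Γ(S, ⊤)} (c : CoordL G ℓ) [IsAffineHom G.hom]
    [Flat G.hom]
    (hℓ : ∀ (U : S.Opens) (hU : IsAffineOpen U),
      IsSMulRegular Γ(S, U) ((Scheme.ΓSpecIso Γ(S, U)).hom (hU.fromSpec.appTop ℓ)))
    (h : NonAbH1.IsTorsorFor Scheme.fpqcPrecoverage a) :
    NonAbH1.IsTorsorFor Scheme.zariskiPrecoverage a := by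
  obtain ⟨haff, hfl⟩ := Groth.Agent.H3.TorsAff.isAffineHom_and_flat a h
  haveI : Surjective X.hom :=
    Groth.Agent.H3.TorsorProp.hom_of_isTorsorFor a @Surjective Scheme.fpqcPrecoverage h
      Groth.Agent.H3.TorsorProp.surjective_hom
  refine ⟨h.1, ?_⟩
  choose U σ hsU hσ using exists_section_nbhd_l a c h.1 hℓ
  refine ⟨Presieve.ofArrows (fun s => (U s).toScheme) (fun s => (U s).ι), ?_, ?_⟩
  · change Presieve.ofArrows _ _ ∈ Scheme.precoverage @IsOpenImmersion S
    rw [Scheme.ofArrows_mem_precoverage_iff]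
    exact ⟨fun x => ⟨x, ⟨⟨x, hsU x⟩, rfl⟩⟩, fun s => inferInstance⟩
  · rintro U' g' ⟨s⟩
    exact ⟨σ s, hσ s⟩

end Groth.Agent.H8.Tors
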