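import Mathlib
import Groth.Prelude.Def_SekSuwa
import Groth.Agent.H4.GaGm
import Groth.Agent.Lib.Helper8.Tors.ZarL

/-!
# The `λ`-coordinate on the base change of `G^(λ) = Spec R[T, 1/(1+λT)]` (helper8)
-/

set_option autoImplicit false
universe u
open CategoryTheory CategoryTheory.Limits MonoidalCategory CartesianMonoidalCategory MonObj
  AlgebraicGeometry TensorProduct
open Groth.Agent.H4.GaGm

namespace Groth.Agent.H8.Tors

section general

variable {R A : CommRingCat.{u}} [Algebra R A] {Y : Over (Spec R)}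

/-- the point attached to a ring hom compatible with the structure maps -/
noncomputable def ptR (φ : A →+* Γ(Y.left, ⊤))
    (hφ : ∀ r : R, φ (algebraMap R A r) = (Y.hom.appTop).hom ((Scheme.ΓSpecIso R).inv.hom r)) :
    Y ⟶ (Spec A).asOver (Spec R) :=
  Over.homMk (Y.left.toSpecΓ ≫ Spec.map (CommRingCat.ofHom φ)) (by
    change (Y.left.toSpecΓ ≫ Spec.map (CommRingCat.ofHom φ)) ≫
      Spec.map (CommRingCat.ofHom (algebraMap R A)) = Y.hom
    apply AlgebraicGeometry.ext_to_Spec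
    change (Scheme.ΓSpecIso R).inv ≫ ((Y.left.toSpecΓ ≫ Spec.map (CommRingCat.ofHom φ)) ≫
      Spec.map (CommRingCat.ofHom (algebraMap R A))).appTop = (Scheme.ΓSpecIso R).inv ≫ Y.hom.appTop
    rw [Category.assoc, ← Spec.map_comp, Scheme.Hom.comp_appTop, Scheme.toSpecΓ_appTop,
      ← Category.assoc, ← Scheme.ΓSpecIso_inv_naturality, Category.assoc, Iso.inv_hom_id,
      Category.comp_id]
    ext r
    exact hφ r)

end general

section bialg

variable {R A : CommRingCat.{u}} [Bialgebra R A] {Y : Over (Spec R)}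

theorem ev_ptR (φ : A →+* Γ(Y.left, ⊤))
    (hφ : ∀ r : R, φ (algebraMap R A r) = (Y.hom.appTop).hom ((Scheme.ΓSpecIso R).inv.hom r)) :
    ev (ptR φ hφ) = φ := by
  ext a
  rw [ev_of_left_eq (ptR φ hφ) Y.left.toSpecΓ (CommRingCat.ofHom φ) rfl a, Scheme.toSpecΓ_appTop]
  simp

theorem ev_algebraMap (b : Y ⟶ (Spec A).asOver (Spec R)) (r : R) :
    ev b (algebraMap R A r) = (Y.hom.appTop).hom ((Scheme.ΓSpecIso R).inv.hom r) := by
  have hw : b.left ≫ Spec.map (CommRingCat.ofHom (algebraMap R A)) = Y.hom := Over.w b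
  have h0 : Y.hom.appTop =
      (Spec.map (CommRingCat.ofHom (algebraMap R A))).appTop ≫ b.left.appTop := by
    rw [← hw, Scheme.Hom.comp_appTop]
    rfl
  have h2 := congrArg (fun ψ => ψ.hom r)
    (Scheme.ΓSpecIso_inv_naturality (CommRingCat.ofHom (algebraMap R A)))
  rw [h0]
  exact congrArg (b.left.appTop).hom h2

end bialg

section sek

variable {R : Type u} [CommRing R] (lam : R) {X : Scheme.{u}} (f : X ⟶ Spec (CommRingCat.of R))

/-- Two ring maps out of `A R lam` agreeing on `R` and on `t` are equal. -/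
theorem ringHom_ext_A {C : Type*} [CommRing C] (φ ψ : SekSuwa.A R lam →+* C)
    (hR : ∀ r : R, φ (algebraMap R _ r) = ψ (algebraMap R _ r))
    (ht : φ SekSuwa.A.t = ψ SekSuwa.A.t) : φ = ψ := by
  have hu : φ SekSuwa.A.u = ψ SekSuwa.A.u := by
    rw [SekSuwa.A.u_def, map_add, map_add, map_one, map_one, map_mul, map_mul, hR, ht]
  have hinv : φ SekSuwa.A.inv = ψ SekSuwa.A.inv := by
    have h1 : φ SekSuwa.A.inv * φ SekSuwa.A.u = 1 := by
      rw [← map_mul, SekSuwa.A.inv_mul_u, map_one]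
    have h2 : ψ SekSuwa.A.u * ψ SekSuwa.A.inv = 1 := by
      rw [← map_mul, SekSuwa.A.u_mul_inv, map_one]
    calc φ SekSuwa.A.inv = φ SekSuwa.A.inv * (ψ SekSuwa.A.u * ψ SekSuwa.A.inv) := by
          rw [h2, _root_.mul_one]
      _ = (φ SekSuwa.A.inv * φ SekSuwa.A.u) * ψ SekSuwa.A.inv := by rw [hu, _root_.mul_assoc]
      _ = ψ SekSuwa.A.inv := by rw [h1, _root_.one_mul]
  letI : Algebra R C := (φ.comp (algebraMap R (SekSuwa.A R lam))).toAlgebra
  let φ' : SekSuwa.A R lam →ₐ[R] C := { φ with commutes' := fun r => rfl }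
  let ψ' : SekSuwa.A R lam →ₐ[R] C := { ψ with commutes' := fun r => (hR r).symm }
  have h3 : φ' = ψ' := SekSuwa.A.algHom_ext ht hinv
  ext a
  exact congrArg (fun χ : SekSuwa.A R lam →ₐ[R] C => χ a) h3

/-- the function `λ` on `X` -/
noncomputable def ellOf : Γ(X, ⊤) :=
  f.appTop.hom ((Scheme.ΓSpecIso (CommRingCat.of R)).inv.hom lam)

/-- the coordinate of a point of the base change of `G^(λ)` -/
noncomputable def lamFn {T : Over X} (x : T ⟶ Red.bc f (SekSuwa.G R lam)) : Γ(T.left, ⊤) :=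
  ev (R := CommRingCat.of R) (A := CommRingCat.of (SekSuwa.A R lam))
    (tr f (SekSuwa.G R lam) x) SekSuwa.A.t

theorem ev_lam {T : Over X} (b : (Over.map f).obj T ⟶ SekSuwa.G R lam) :
    ev (R := CommRingCat.of R) (A := CommRingCat.of (SekSuwa.A R lam)) b
      (algebraMap R (SekSuwa.A R lam) lam) = T.hom.appTop.hom (ellOf lam f) := by
  rw [ev_algebraMap (R := CommRingCat.of R) (A := CommRingCat.of (SekSuwa.A R lam)) b lam]
  change ((T.hom ≫ f).appTop).hom _ = _
  rw [Scheme.Hom.comp_appTop]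
  rfl

theorem lamFn_mul {T : Over X} (x y : T ⟶ Red.bc f (SekSuwa.G R lam)) :
    lamFn lam f (x * y) = lamFn lam f x + lamFn lam f y +
      T.hom.appTop.hom (ellOf lam f) * (lamFn lam f x * lamFn lam f y) := by
  unfold lamFn
  rw [tr_mul, ev_mul, SekSuwa.A.comul_t, map_add, map_add, ev₂_tmul, ev₂_tmul, map_one, map_one,
    _root_.mul_one, _root_.one_mul]
  congr 1
  rw [TensorProduct.smul_tmul', ev₂_tmul, Algebra.smul_def, map_mul, ev_lam]
  ring

theorem lamFn_unit {T : Over X} (x : T ⟶ Red.bc f (SekSuwa.G R lam)) :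
    IsUnit (1 + T.hom.appTop.hom (ellOf lam f) * lamFn lam f x) := by
  have h := (SekSuwa.A.isUnit_u (R := R) (lam := lam)).map
    (ev (R := CommRingCat.of R) (A := CommRingCat.of (SekSuwa.A R lam))
      (tr f (SekSuwa.G R lam) x))
  rw [SekSuwa.A.u_def, map_add, map_one, map_mul, ev_lam] at h
  exact h

theorem lamFn_injective {T : Over X} : Function.Injective (lamFn lam f (T := T)) := by
  intro x y h
  apply tr_injective f (SekSuwa.G R lam)
  apply ev_injective (R := CommRingCat.of R) (A := CommRingCat.of (SekSuwa.A R lam))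
  apply ringHom_ext_A
  · intro r
    rw [ev_algebraMap (R := CommRingCat.of R) (A := CommRingCat.of (SekSuwa.A R lam)),
      ev_algebraMap (R := CommRingCat.of R) (A := CommRingCat.of (SekSuwa.A R lam))]
  · exact h

theorem lamFn_comp {T T' : Over X} (π : T' ⟶ T) (x : T ⟶ Red.bc f (SekSuwa.G R lam)) :
    lamFn lam f (π ≫ x) = π.left.appTop.hom (lamFn lam f x) := by
  unfold lamFn ev
  rw [RingHom.comp_apply, RingHom.comp_apply, tr_left, tr_left, Over.comp_left, Category.assoc,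
    Scheme.Hom.comp_appTop]
  rfl

theorem lamFn_surjective {T : Over X} (v : Γ(T.left, ⊤))
    (hv : IsUnit (1 + T.hom.appTop.hom (ellOf lam f) * v)) :
    ∃ x : T ⟶ Red.bc f (SekSuwa.G R lam), lamFn lam f x = v := by
  obtain ⟨w, hw⟩ := hv.exists_right_inv
  obtain ⟨ρ, hρ⟩ : ∃ ρ : R →+* Γ(T.left, ⊤), ρ = (((Over.map f).obj T).hom.appTop).hom.comp
      (Scheme.ΓSpecIso (CommRingCat.of R)).inv.hom := ⟨_, rfl⟩
  letI : Algebra R Γ(T.left, ⊤) := ρ.toAlgebra
  have hρl : ρ lam = T.hom.appTop.hom (ellOf lam f) := by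
    rw [hρ]
    change ((T.hom ≫ f).appTop).hom _ = _
    rw [Scheme.Hom.comp_appTop]
    rfl
  have h1 : (1 + lam • v) * w = 1 := by
    rw [Algebra.smul_def]
    change (1 + ρ lam * v) * w = 1
    rw [hρl]
    exact hw
  obtain ⟨b, hb⟩ : ∃ b : (Over.map f).obj T ⟶ SekSuwa.G R lam,
      ev (R := CommRingCat.of R) (A := CommRingCat.of (SekSuwa.A R lam)) b SekSuwa.A.t = v := by
    refine ⟨ptR (R := CommRingCat.of R) (A := CommRingCat.of (SekSuwa.A R lam))
      ((SekSuwa.A.lift R lam v w h1 : SekSuwa.A R lam →ₐ[R] Γ(T.left, ⊤)) :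
        SekSuwa.A R lam →+* Γ(T.left, ⊤)) (fun r => ?_), ?_⟩
    · refine ((SekSuwa.A.lift R lam v w h1).commutes r).trans ?_
      change ρ r = _
      rw [hρ]
      rfl
    · rw [ev_ptR]
      exact SekSuwa.A.lift_t v w h1
  refine ⟨(Over.mapPullbackAdj f).homEquiv T (SekSuwa.G R lam) b, ?_⟩
  unfold lamFn
  have : tr f (SekSuwa.G R lam) ((Over.mapPullbackAdj f).homEquiv T (SekSuwa.G R lam) b) = b := by
    simp [tr]
  rw [this, hb]

/-- the `λ`-coordinate on the base change of `G^(λ)` -/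
noncomputable def coordL : CoordL (Red.bc f (SekSuwa.G R lam)) (ellOf lam f) where
  fn := lamFn lam f
  fn_mul := lamFn_mul lam f
  fn_unit := lamFn_unit lam f
  fn_inj := fun {_} _ _ h => lamFn_injective lam f h
  fn_surj := lamFn_surjective lam f
  fn_comp := lamFn_comp lam f

end sek

end Groth.Agent.H8.Tors
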