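import Mathlib
import Groth.Prelude.Def_SekSuwa
import Groth.Prelude.Def_NonAbH2
import Groth.Agent.Lib.Helper8.Tors.SekG

/-!
# fppf torsors under `G^(λ)` over a flat `R`-scheme are Zariski locally trivial (helper8)
-/

set_option autoImplicit false
universe u
open CategoryTheory CategoryTheory.Limits MonoidalCategory CartesianMonoidalCategory MonObj
  AlgebraicGeometry TensorProduct Polynomial

namespace Groth.Agent.H8.Tors

section flat
variable (R : Type u) [CommRing R] (lam : R)

/-- `R[T, 1/(1+λT)]` is flat over `R` (a retract of a localisation of `R[X]`). -/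
theorem flat_A : Module.Flat R (SekSuwa.A R lam) := by
  obtain ⟨q, hq⟩ : ∃ q : R[X], q = 1 + C lam * X := ⟨_, rfl⟩
  have hqL : algebraMap R[X] (Localization.Away q) q =
      1 + lam • algebraMap R[X] (Localization.Away q) X := by
    rw [hq, map_add, map_one, map_mul, Algebra.smul_def]
    congr 2
  have h1 : (1 + lam • algebraMap R[X] (Localization.Away q) X) *
      IsLocalization.Away.invSelf (S := Localization.Away q) q = 1 := by
    rw [← hqL]
    exact IsLocalization.Away.mul_invSelf q
  have haq : aeval (SekSuwa.A.t : SekSuwa.A R lam) q = SekSuwa.A.u := by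
    rw [hq, map_add, map_one, map_mul, aeval_C, aeval_X, ← SekSuwa.A.u_def]
  have hunit : ∀ y : Submonoid.powers q,
      IsUnit ((aeval (SekSuwa.A.t : SekSuwa.A R lam)) (y : R[X])) := by
    rintro ⟨_, n, rfl⟩
    rw [map_pow, haq]
    exact SekSuwa.A.isUnit_u.pow n
  obtain ⟨φ, hφt, hφi⟩ : ∃ φ : SekSuwa.A R lam →ₐ[R] Localization.Away q,
      φ SekSuwa.A.t = algebraMap R[X] (Localization.Away q) X ∧
      φ SekSuwa.A.inv = IsLocalization.Away.invSelf (S := Localization.Away q) q :=
    ⟨SekSuwa.A.lift R lam _ _ h1, SekSuwa.A.lift_t _ _ h1, SekSuwa.A.lift_inv _ _ h1⟩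
  obtain ⟨ψ, hψ⟩ : ∃ ψ : Localization.Away q →ₐ[R] SekSuwa.A R lam,
      ∀ z : R[X], ψ (algebraMap R[X] (Localization.Away q) z) =
        aeval (SekSuwa.A.t : SekSuwa.A R lam) z :=
    ⟨IsLocalization.liftAlgHom (M := Submonoid.powers q) (S := Localization.Away q)
      (f := aeval (SekSuwa.A.t : SekSuwa.A R lam)) hunit, fun z => IsLocalization.lift_eq _ z⟩
  have hψφ : ψ.comp φ = AlgHom.id R _ := by
    apply SekSuwa.A.algHom_ext
    · rw [AlgHom.comp_apply, hφt, hψ, aeval_X]
      rfl
    · rw [AlgHom.comp_apply, hφi]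
      have h2 : ψ (IsLocalization.Away.invSelf (S := Localization.Away q) q) * SekSuwa.A.u = 1 := by
        rw [← haq, ← hψ, ← map_mul, mul_comm, IsLocalization.Away.mul_invSelf, map_one]
      calc ψ (IsLocalization.Away.invSelf (S := Localization.Away q) q)
          = ψ (IsLocalization.Away.invSelf (S := Localization.Away q) q) *
              (SekSuwa.A.u * SekSuwa.A.inv) := by rw [SekSuwa.A.u_mul_inv, _root_.mul_one]
        _ = SekSuwa.A.inv := by rw [← _root_.mul_assoc, h2, _root_.one_mul]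
  have : Module.Flat R[X] (Localization.Away q) :=
    IsLocalization.flat (Localization.Away q) (Submonoid.powers q)
  have : Module.Flat R (Localization.Away q) := Module.Flat.trans R R[X] (Localization.Away q)
  refine Module.Flat.of_retract φ.toLinearMap ψ.toLinearMap ?_
  ext a
  exact congrArg (fun χ : SekSuwa.A R lam →ₐ[R] SekSuwa.A R lam => χ a) hψφ

end flat

theorem main14684 (R : Type u) [CommRing R] [IsDomain R] (lam : R) (hlam : lam ≠ 0)
    (X : Scheme.{u}) (f : X ⟶ Spec (CommRingCat.of R)) [Flat f]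
    (P : Over X) (a : AlgGrp.Action (Red.bc f (SekSuwa.G R lam)) P)
    (hP : NonAbH1.IsTorsorFor Scheme.fppfPrecoverage a) :
    NonAbH1.IsTorsorFor Scheme.zariskiPrecoverage a := by
  have hP' : NonAbH1.IsTorsorFor Scheme.fpqcPrecoverage a := by
    obtain ⟨h1, R', hR', h2⟩ := hP
    exact ⟨h1, R', Scheme.fppfPrecoverage_le_fpqcPrecoverage _ hR', h2⟩
  have hfl : Module.Flat R (SekSuwa.A R lam) := flat_A R lam
  haveI : Flat (SekSuwa.G R lam).hom := by
    change Flat (Spec.map (CommRingCat.ofHom (algebraMap R (SekSuwa.A R lam))))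
    rw [HasRingHomProperty.Spec_iff (P := @Flat)]
    exact RingHom.flat_algebraMap_iff.mpr hfl
  haveI : IsAffineHom (SekSuwa.G R lam).hom := by
    change IsAffineHom (Spec.map (CommRingCat.ofHom (algebraMap R (SekSuwa.A R lam))))
    infer_instance
  haveI : Flat (Red.bc f (SekSuwa.G R lam)).hom := by
    change Flat (pullback.snd (SekSuwa.G R lam).hom f)
    infer_instance
  haveI : IsAffineHom (Red.bc f (SekSuwa.G R lam)).hom := by
    change IsAffineHom (pullback.snd (SekSuwa.G R lam).hom f)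
    exact MorphismProperty.pullback_snd (P := @IsAffineHom) _ _ inferInstance
  refine isTorsorFor_zariski_of_coordL a (coordL lam f) ?_ hP'
  intro U hU
  have hm : Flat (hU.fromSpec ≫ f) := inferInstance
  obtain ⟨ψ, hψ⟩ : ∃ ψ : CommRingCat.of R ⟶ Γ(X, U), Spec.map ψ = hU.fromSpec ≫ f :=
    ⟨Spec.preimage (hU.fromSpec ≫ f), Spec.map_preimage _⟩
  have hψfl : ψ.hom.Flat := by
    rw [← hψ] at hm
    exact (HasRingHomProperty.Spec_iff (P := @Flat)).mp hm
  have h1 : (Scheme.ΓSpecIso Γ(X, U)).hom (hU.fromSpec.appTop (ellOf lam f)) = ψ.hom lam := by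
    have h2 : hU.fromSpec.appTop (ellOf lam f) =
        (Spec.map ψ).appTop ((Scheme.ΓSpecIso (CommRingCat.of R)).inv lam) := by
      rw [hψ, Scheme.Hom.comp_appTop]
      rfl
    rw [h2]
    have h3 := congrArg (fun χ => χ.hom ((Scheme.ΓSpecIso (CommRingCat.of R)).inv lam))
      (Scheme.ΓSpecIso_naturality ψ)
    refine h3.trans ?_
    have h4 : (Scheme.ΓSpecIso (CommRingCat.of R)).hom
        ((Scheme.ΓSpecIso (CommRingCat.of R)).inv lam) = lam := by
      rw [← CommRingCat.comp_apply, Iso.inv_hom_id]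
      rfl
    change ψ.hom ((Scheme.ΓSpecIso (CommRingCat.of R)).hom
      ((Scheme.ΓSpecIso (CommRingCat.of R)).inv lam)) = _
    rw [h4]
  rw [h1]
  algebraize [ψ.hom]
  have hreg : IsSMulRegular R lam := (IsRegular.of_ne_zero hlam).left.isSMulRegular
  exact IsSMulRegular.of_flat (S := Γ(X, U)) hreg

end Groth.Agent.H8.Tors
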