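import Mathlib
import Groth.Agent.Lib.Helper8.Tors.CoreGL
import Groth.Agent.Lib.Helper8.Tors.GLPts

/-!
# fpqc torsors under `GL_n` are Zariski locally trivial (helper8)
-/

set_option autoImplicit false
universe u
open CategoryTheory CategoryTheory.Limits MonoidalCategory CartesianMonoidalCategory MonObj
  AlgebraicGeometry TensorProduct

namespace Groth.Agent.H8.Tors

variable {S : Scheme.{u}} {G X Y : Over S} [GrpObj G] (a : AlgGrp.Action G X) (φ : X ⟶ Y)
  (hc : IsPullback a.act (snd G X) φ φ)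

include hc in
theorem exists_section_nbhd_gl {n : ℕ} (c : CoordGL n G)
    [IsAffineHom φ.left] [Flat φ.left] [Surjective φ.left] (s : Y.left) :
    ∃ (U : Y.left.Opens) (σ : U.toScheme ⟶ X.left), s ∈ U ∧ σ ≫ φ.left = U.ι := by
  obtain ⟨_, ⟨U, hU, rfl⟩, hsU, -⟩ := Y.left.isBasis_affineOpens.exists_subset_of_mem_open
    (Set.mem_univ s) isOpen_univ
  have hV : IsAffineOpen (φ.left ⁻¹ᵁ U) := hU.preimage φ.left
  have hsq : Spec.map (φ.left.app U) ≫ hU.fromSpec = hV.fromSpec ≫ φ.left := by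
    rw [Scheme.Hom.app_eq_appLE]
    exact IsAffineOpen.SpecMap_appLE_fromSpec φ.left hU hV le_rfl
  have hflat : (φ.left.app U).hom.Flat := by
    rw [Scheme.Hom.app_eq_appLE]
    exact HasRingHomProperty.appLE (P := @Flat) φ.left inferInstance ⟨U, hU⟩ ⟨_, hV⟩ le_rfl
  have hsurj : Surjective (Spec.map (φ.left.app U)) := by
    constructor
    intro y
    obtain ⟨x, hx⟩ := φ.left.surjective (hU.fromSpec y)
    have hyU : hU.fromSpec y ∈ (U : Set Y.left) := by
      rw [← hU.range_fromSpec]; exact Set.mem_range_self y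
    have hxV : x ∈ Set.range hV.fromSpec := by
      rw [hV.range_fromSpec]
      show φ.left x ∈ U
      rw [hx]; exact hyU
    obtain ⟨x', rfl⟩ := hxV
    refine ⟨x', ?_⟩
    apply hU.fromSpec.isOpenEmbedding.injective
    rw [← Scheme.Hom.comp_apply, hsq, Scheme.Hom.comp_apply, hx]
  letI : Algebra Γ(Y.left, U) Γ(X.left, φ.left ⁻¹ᵁ U) := (φ.left.app U).hom.toAlgebra
  have hff : Module.FaithfullyFlat Γ(Y.left, U) Γ(X.left, φ.left ⁻¹ᵁ U) :=
    (flat_and_surjective_SpecMap_iff (φ.left.app U)).mp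
      ⟨(HasRingHomProperty.Spec_iff (P := @Flat)).mpr hflat, hsurj⟩
  -- the prime of `s`
  let p : Ideal Γ(Y.left, U) :=
    (IsLocalRing.maximalIdeal (Y.left.presheaf.stalk s)).comap (Y.left.presheaf.germ U s hsU).hom
  haveI : p.IsPrime := Ideal.comap_isPrime _ _
  obtain ⟨f, hfp, H⟩ := exists_section_affine_gl a φ hc c Γ(Y.left, U) Γ(X.left, φ.left ⁻¹ᵁ U)
    hU.fromSpec hV.fromSpec hsq.symm p
  have hsf : s ∈ Y.left.basicOpen f := by
    rw [Scheme.mem_basicOpen Y.left f s hsU]
    by_contra hnu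
    apply hfp
    show (Y.left.presheaf.germ U s hsU).hom f ∈ IsLocalRing.maximalIdeal _
    rw [IsLocalRing.mem_maximalIdeal, mem_nonunits_iff]
    exact hnu
  have hU' : IsAffineOpen (Y.left.basicOpen f) := hU.basicOpen f
  letI : Algebra Γ(Y.left, U) Γ(Y.left, Y.left.basicOpen f) :=
    (Y.left.presheaf.map (homOfLE (Y.left.basicOpen_le f)).op).hom.toAlgebra
  have hfu : IsUnit (algebraMap Γ(Y.left, U) Γ(Y.left, Y.left.basicOpen f) f) :=
    Y.left.toRingedSpace.isUnit_res_basicOpen f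
  obtain ⟨r, hr⟩ := H Γ(Y.left, Y.left.basicOpen f) hfu
  refine ⟨Y.left.basicOpen f, hU'.isoSpec.hom ≫ r, hsf, ?_⟩
  rw [Category.assoc, hr]
  change hU'.isoSpec.hom ≫ Spec.map (Y.left.presheaf.map (homOfLE (Y.left.basicOpen_le f)).op) ≫
    hU.fromSpec = _
  rw [hU.map_fromSpec hU', hU'.isoSpec_hom_fromSpec]

include a hc in
/-- A torsor (given by a cartesian square) under an affine flat group scheme with a matrix
coordinate, trivial fpqc locally on `Y`, is trivial Zariski locally on `Y`. -/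
theorem isLocallyTrivialFor_zariski_of_coordGL {n : ℕ} (c : CoordGL n G)
    [IsAffineHom G.hom] [Flat G.hom]
    (hloc : NonAbH1.IsLocallyTrivialFor Scheme.fpqcPrecoverage (Over.mk φ.left : Over Y.left)) :
    NonAbH1.IsLocallyTrivialFor Scheme.zariskiPrecoverage (Over.mk φ.left : Over Y.left) := by
  haveI : IsAffineHom φ.left := prop_of_cart a φ hc @IsAffineHom hloc inferInstance
  haveI : Flat φ.left := prop_of_cart a φ hc @Flat hloc inferInstance
  haveI : Surjective φ.left :=
    prop_of_cart a φ hc @Surjective hloc Groth.Agent.H3.TorsorProp.surjective_hom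
  choose U σ hsU hσ using exists_section_nbhd_gl a φ hc c
  refine ⟨Presieve.ofArrows (fun s => (U s).toScheme) (fun s => (U s).ι), ?_, ?_⟩
  · change Presieve.ofArrows _ _ ∈ Scheme.precoverage @IsOpenImmersion Y.left
    rw [Scheme.ofArrows_mem_precoverage_iff]
    exact ⟨fun x => ⟨x, ⟨⟨x, hsU x⟩, rfl⟩⟩, fun s => inferInstance⟩
  · rintro U' g' ⟨s⟩
    exact ⟨σ s, hσ s⟩

/-- the matrix coordinate of `GL_{n,S}` -/
noncomputable def coordGLn (n : ℕ) (S : Scheme.{u}) : CoordGL n (FrB.GLn n S) where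
  fn := fun x => glFn n x
  fn_mul := fun x y => glFn_mul x y
  fn_unit := fun x => isUnit_glFn x
  fn_inj := fun {_} => glFn_injective
  fn_surj := fun v hv => exists_glFn_eq v hv
  fn_comp := fun π x => glFn_comp π x

end Groth.Agent.H8.Tors
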